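import Cfsg.Agent.H17.Palfy.Duals
import Cfsg.Agent.H19.Cores

/-!
# The case without normal Sylow subgroups
-/

set_option autoImplicit false
set_option linter.all false

namespace Cfsg.Agent.H17.Palfy

variable {G : Type*} [Group G] [Finite G]

/-- Inflation keeps primes apart. -/
theorem Apart.of_surjective {H : Type*} [Group H] [Finite H] {q r : ℕ} (h : Apart q r G)
    (π : G →* H) (hπ : Function.Surjective π) : Apart q r H := fun χ a b => by
  let χ' : Cfsg.IrrCharacter G :=
    ⟨fun g => χ.1 (π g), H44.isIrrCharacter_comp_surjective π hπ χ.2⟩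
  have e : Cfsg.charDegree (χ' : G → ℂ) = Cfsg.charDegree (χ : H → ℂ) := by
    simp [Cfsg.charDegree, χ']
  exact h χ' (e ▸ a) (e ▸ b)

/-- The projection onto a complement of a normal subgroup. -/
theorem exists_projection (P K : Subgroup G) [P.Normal] (hsup : P ⊔ K = ⊤) (hdis : P ⊓ K = ⊥) :
    ∃ π : G →* K, Function.Surjective π := by
  let e : K →* G ⧸ P := (QuotientGroup.mk' P).comp K.subtype
  have hb : Function.Bijective e := by
    refine ⟨(injective_iff_map_eq_one e).mpr fun k hk => ?_, fun c => ?_⟩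
    · have : (k : G) ∈ P ⊓ K := Subgroup.mem_inf.mpr ⟨(QuotientGroup.eq_one_iff _).mp hk, k.2⟩
      rw [hdis, Subgroup.mem_bot] at this
      exact Subtype.ext this
    · induction c using QuotientGroup.induction_on with | _ g =>
      have hg : g ∈ ((K ⊔ P : Subgroup G) : Set G) := by rw [sup_comm, hsup]; trivial
      rw [Subgroup.mul_normal K P] at hg
      obtain ⟨k, hk, p, hp, rfl⟩ := hg
      exact ⟨⟨k, hk⟩, QuotientGroup.eq.mpr (by simpa using hp)⟩
  exact ⟨(MulEquiv.ofBijective e hb).symm.toMonoidHom.comp (QuotientGroup.mk' P),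
    (MulEquiv.ofBijective e hb).symm.surjective.comp (QuotientGroup.mk'_surjective P)⟩

/-- An abelian non-trivial group has a non-trivial linear character. -/
theorem nontrivial_dual {A : Type*} [Group A] [Finite A] [Nontrivial A]
    (hA : ∀ a b : A, a * b = b * a) : Nontrivial (A →* ℂˣ) := by
  obtain ⟨x, hx⟩ := exists_ne (1 : A)
  obtain ⟨ν, -, hν⟩ := exists_linear_separating (⊥ : Subgroup A) (x := x) fun c hc d hd e => by
    rw [Subgroup.mem_bot.mp hc, one_mul] at e
    subst e
    have : commutator A = ⊥ := by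
      rw [commutator_def, Subgroup.commutator_eq_bot_iff_le_centralizer]
      exact fun a _ => Subgroup.mem_centralizer_iff.mpr fun b _ => hA b a
    rw [this, Subgroup.mem_bot] at hd
    exact hx hd
  exact ⟨ν, 1, fun e => hν (by rw [e]; rfl)⟩

/-- A prime apart from the primes of an orbit: consequences for the stabiliser. -/
theorem good_of_linear [Group.IsSolvable G] (M K : Subgroup G) [hMn : M.Normal] (hsup : M ⊔ K = ⊤)
    (hdis : M ⊓ K = ⊥) (f : M →* ℂˣ) (hMf : M ≤ linStabilizer M f) {p t : ℕ} [Fact t.Prime]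
    (hapt : Apart p t G) (hp : p ∣ (stabOf (dualAct M K) f).index) :
    ¬ t ∣ (stabOf (dualAct M K) f).index ∧ Good t ↥(stabOf (dualAct M K) f) := by
  obtain ⟨μ, hμ⟩ := exists_linear_ext M M K hsup hdis f hMf f fun t ht x y hy => by
    rw [show y = ⟨t * x * t⁻¹, hMn.conj_mem x x.2 t⟩ from Subtype.ext hy]
    exact mem_linStabilizer.mp ht x
  refine not_dvd_and_good M M K le_rfl hsup hdis f hMf hapt (H38.RealOdd.linIrr μ)
    (H26.isIrrCharacter_hom (μ.comp (M.subgroupOf (linStabilizer M f)).subtype))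
    (fun m => ?_) (hp.mul_right _)
  show (μ _ : ℂ) = (μ 1 : ℂ) * _
  rw [map_one, Units.val_one, one_mul, hμ m]

/-- The index of an overgroup of the normal subgroup is its index in the complement. -/
theorem index_subgroupOf_of_sup (M K T : Subgroup G) [M.Normal] (hsup : M ⊔ K = ⊤) (hMT : M ≤ T) :
    T.index = (T.subgroupOf K).index := by
  rw [Subgroup.index_eq_card, Subgroup.index_eq_card]
  refine (Nat.card_congr (Equiv.ofBijective
    (Quotient.map' (fun k : K => (k : G)) fun a b h => ?_) ⟨fun a b h => ?_, fun c => ?_⟩)).symm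
  · rw [QuotientGroup.leftRel_apply] at h ⊢
    have h' := Subgroup.mem_subgroupOf.mp h
    push_cast at h'
    exact h'
  · induction a using QuotientGroup.induction_on with | _ a =>
    induction b using QuotientGroup.induction_on with | _ b =>
    refine QuotientGroup.eq.mpr (Subgroup.mem_subgroupOf.mpr ?_)
    push_cast
    exact QuotientGroup.eq.mp h
  · induction c using QuotientGroup.induction_on with | _ g =>
    have hg : g ∈ ((K ⊔ M : Subgroup G) : Set G) := by rw [sup_comm, hsup]; trivial
    rw [Subgroup.mul_normal K M] at hg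
    obtain ⟨k, hk, m, hm, rfl⟩ := hg
    refine ⟨((⟨k, hk⟩ : K) : K ⧸ T.subgroupOf K), QuotientGroup.eq.mpr ?_⟩
    show k⁻¹ * (k * m) ∈ T
    rw [inv_mul_cancel_left]
    exact hMT hm

/-- A normal Sylow subgroup of the complement centralising the normal subgroup gives a normal
Sylow subgroup. -/
theorem exists_normal_sylow (M K : Subgroup G) [hMn : M.Normal] (hsup : M ⊔ K = ⊤)
    (hdis : M ⊓ K = ⊥) {s t : ℕ} [Fact s.Prime] [Fact t.Prime] (hMs : IsPGroup s M)
    (T : Sylow t K) (hTn : (T : Subgroup K).Normal)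
    (hcent : ∀ k ∈ (T : Subgroup K), ∀ m ∈ M, (k : G) * m = m * k) :
    ∃ T' : Sylow t G, (T' : Subgroup G).Normal := by
  set T₁ : Subgroup G := (T : Subgroup K).map K.subtype with hT₁
  have hcomm : ∀ x ∈ T₁, ∀ m ∈ M, x * m = m * x := by
    rintro _ ⟨k, hk, rfl⟩ m hm
    exact hcent k hk m hm
  have hnormT : T₁.Normal := by
    refine Subgroup.normalizer_eq_top_iff.mp (top_unique ?_)
    rw [← hsup]
    refine sup_le (fun m hm => Subgroup.mem_normalizer_iff.mpr fun x => ?_)
      (fun g hg => Subgroup.mem_normalizer_iff.mpr fun x => ?_)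
    · constructor
      · intro h
        rwa [← hcomm x h m hm, mul_inv_cancel_right]
      · intro h
        have e := hcomm _ h m hm
        rw [inv_mul_cancel_right] at e
        have : x = m * x * m⁻¹ := (mul_left_cancel e.symm).symm
        rwa [← this] at h
    · constructor
      · rintro ⟨k, hk, rfl⟩
        exact ⟨⟨g, hg⟩ * k * ⟨g, hg⟩⁻¹, hTn.conj_mem k hk _, by simp⟩
      · rintro ⟨k, hk, e⟩
        refine ⟨⟨g, hg⟩⁻¹ * k * ⟨g, hg⟩, ?_, ?_⟩
        · show _ ∈ (T : Subgroup K)
          simpa using hTn.conj_mem k hk ⟨g, hg⟩⁻¹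
        · simp only [Subgroup.coe_subtype] at e
          simp [e, mul_assoc]
  haveI := hnormT
  have hKM : K.index = Nat.card M := by
    have hc : Subgroup.IsComplement' M K := (Subgroup.isComplement'_of_disjoint_and_mul_eq_univ (disjoint_iff.mpr hdis) (by
      rw [← Subgroup.normal_mul M K, hsup]; rfl))
    exact Subgroup.IsComplement'.index_eq_card hc
  by_cases hst : s = t
  · subst hst
    have hpg : IsPGroup s ↥(T₁ ⊔ M) :=
      IsPGroup.to_sup_of_normal_right (T.isPGroup'.map K.subtype) hMs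
    have hidx : ¬ s ∣ (T₁ ⊔ M).index := by
      intro hd
      have h1 : (T₁ ⊔ M).index ∣ (T : Subgroup K).index := by
        rw [index_subgroupOf_of_sup M K (T₁ ⊔ M) hsup le_sup_right]
        exact Subgroup.index_dvd_of_le fun k hk =>
          Subgroup.mem_subgroupOf.mpr (Subgroup.mem_sup_left ⟨k, hk, rfl⟩)
      exact T.not_dvd_index (hd.trans h1)
    exact ⟨hpg.toSylow hidx, by
      rw [IsPGroup.toSylow_coe]; infer_instance⟩
  · have hidx : ¬ t ∣ T₁.index := by
      rw [hT₁, Subgroup.index_map_subtype, hKM]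
      intro hd
      rcases (Fact.out : t.Prime).dvd_mul.mp hd with h | h
      · exact T.not_dvd_index h
      · obtain ⟨j, hj⟩ := IsPGroup.iff_card.mp hMs
        exact hst ((Nat.prime_dvd_prime_iff_eq Fact.out (Fact.out : s.Prime)).mp
          ((Fact.out : t.Prime).dvd_of_dvd_pow (hj ▸ h))).symm
    exact ⟨(T.isPGroup'.map K.subtype).toSylow hidx, by
      rw [IsPGroup.toSylow_coe]; exact hnormT⟩

/-- Pálfy's theorem when a minimal normal subgroup spoils one of three non-normal Sylow subgroups. -/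
theorem case_none [Group.IsSolvable G] {p q r : ℕ} [Fact p.Prime] [Fact q.Prime] [Fact r.Prime]
    (hqr : q ≠ r) (hpq : Apart p q G) (hpr : Apart p r G) (hap : Apart q r G)
    (M : Subgroup G) [hMn : M.Normal] (hM1 : M ≠ ⊥)
    (hmin : ∀ W : Subgroup G, W.Normal → W ≤ M → W = ⊥ ∨ W = M)
    (P : Sylow p G) (hP : ¬ (P : Subgroup G).Normal) (hQn : ∀ Q : Sylow q G, ¬ (Q : Subgroup G).Normal)
    (hRn : ∀ R : Sylow r G, ¬ (R : Subgroup G).Normal)
    (hPM : ((P : Subgroup G) ⊔ M).Normal) : False := by
  classical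
  obtain ⟨hMab, s, hs, hexp⟩ := H37.minimal_normal_elementary M hM1 hmin
  haveI := Fact.mk hs
  have hMs : IsPGroup s M := fun m => ⟨1, by rw [pow_one]; exact hexp m⟩
  have hsp : s ≠ p := by
    rintro rfl
    haveI := hPM
    refine hP ?_
    have : (P : Subgroup G) ⊔ M = P := sup_eq_left.mpr ((H19.le_pCore hMn hMs).trans (H19.pCore_le_sylow P))
    rw [← this]
    exact hPM
  set K := Subgroup.normalizer ((P : Subgroup G) : Set G) with hK
  have hsupKM : K ⊔ M = ⊤ := by
    haveI := hPM
    have h := P.normalizer_sup_eq_top' (N := (P : Subgroup G) ⊔ M) le_sup_left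
    refine top_unique ((ge_of_eq h).trans (sup_le le_sup_left (sup_le ?_ le_sup_right)))
    exact (Subgroup.le_normalizer).trans le_sup_left
  have hMab' : ∀ a ∈ M, ∀ b ∈ M, a * b = b * a := fun a ha b hb =>
    congrArg Subtype.val (hMab ⟨a, ha⟩ ⟨b, hb⟩)
  have hdis : M ⊓ K = ⊥ := by
    have hn : (M ⊓ K).Normal := by
      refine Subgroup.normalizer_eq_top_iff.mp (top_unique ?_)
      rw [← hsupKM]
      refine sup_le (fun k hk => Subgroup.mem_normalizer_iff.mpr fun x => ?_)
        (fun m hm => Subgroup.mem_normalizer_iff.mpr fun x => ?_)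
      · simp only [Subgroup.mem_inf]
        refine and_congr ⟨fun h => hMn.conj_mem x h k, fun h => ?_⟩ ?_
        · simpa [mul_assoc] using hMn.conj_mem _ h k⁻¹
        · exact Subgroup.mem_normalizer_iff.mp (Subgroup.le_normalizer hk) x
      · constructor
        · intro h
          rwa [hMab' m hm x (Subgroup.mem_inf.mp h).1, mul_inv_cancel_right]
        · intro h
          obtain ⟨h1, -⟩ := Subgroup.mem_inf.mp h
          have hx : x ∈ M := by simpa [mul_assoc] using hMn.conj_mem _ h1 m⁻¹
          rwa [hMab' m hm x hx, mul_inv_cancel_right] at h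
    rcases hmin _ hn inf_le_left with e | e
    · exact e
    · exfalso
      have hMK : M ≤ K := inf_eq_left.mp e
      rw [sup_eq_left.mpr hMK] at hsupKM
      exact hP (Subgroup.normalizer_eq_top_iff.mp hsupKM)
  have hsup : M ⊔ K = ⊤ := by rw [sup_comm]; exact hsupKM
  have hMfix : ∀ f : M →* ℂˣ, M ≤ linStabilizer M f := fun f x hx =>
    mem_linStabilizer.mpr fun m => congrArg f (Subtype.ext (by
      show x * m * x⁻¹ = m
      rw [hMab' x hx m m.2, mul_inv_cancel_right]))
  set φ := dualAct M K with hφ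
  haveI : Nontrivial M := (Subgroup.nontrivial_iff_ne_bot M).mpr hM1
  haveI : Nontrivial (M →* ℂˣ) := nontrivial_dual hMab
  -- `p` divides every non-trivial orbit
  have hdiv : ∀ f : M →* ℂˣ, f ≠ 1 → p ∣ (stabOf φ f).index := by
    intro f hf
    by_contra hnd
    obtain ⟨T, hT⟩ := H25.exists_sylow_le_of_not_dvd_index _ hnd
    have hPK : (P : Subgroup G) ≤ K := Subgroup.le_normalizer
    have hn : ((P.subtype hPK : Sylow p K) : Subgroup K).Normal := by
      rw [Sylow.coe_subtype]
      exact Subgroup.normal_subgroupOf_of_le_normalizer (le_refl K)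
    haveI := Sylow.unique_of_normal _ hn
    apply hf
    refine eq_one_of_fixed M (P : Subgroup G) ?_ f (fun a ha m => ?_) fun m hm => ?_
    · obtain ⟨i, hi⟩ := IsPGroup.iff_card.mp P.isPGroup'
      obtain ⟨j, hj⟩ := IsPGroup.iff_card.mp hMs
      rw [hi, hj]
      exact Nat.Coprime.pow _ _ ((Nat.coprime_primes Fact.out hs).mpr (Ne.symm hsp))
    · refine fixed_of_mem_stab (k := ⟨a, hPK ha⟩) (hT ?_) m
      rw [Subsingleton.elim T (P.subtype hPK)]
      exact ha
    · have : (m : G) ∈ M ⊓ K := Subgroup.mem_inf.mpr ⟨m.2, Subgroup.centralizer_le_normalizer _ hm⟩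
      rw [hdis, Subgroup.mem_bot] at this
      rw [show m = 1 from Subtype.ext this, map_one]
  have hgood : ∀ {t : ℕ} [Fact t.Prime], Apart p t G → StabGood (X := M →* ℂˣ) φ t := fun {t} _ hapt f hf =>
    good_of_linear M K hsup hdis f (hMfix f) hapt (hdiv f hf)
  -- a Sylow subgroup in the kernel would be normal
  have hker : ∀ {t : ℕ} [Fact t.Prime], StabGood (X := M →* ℂˣ) φ t →
      (∀ T : Sylow t G, ¬ (T : Subgroup G).Normal) → t ∣ Nat.card φ.range := by
    intro t ht hgd hnn
    by_contra hnd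
    obtain ⟨T⟩ : Nonempty (Sylow t K) := inferInstance
    have hTk := sylow_le_ker (X := M →* ℂˣ) φ hnd T
    obtain ⟨T', hT'⟩ := exists_normal_sylow M K hsup hdis hMs T (StabGood.good_of_le_ker (X := M →* ℂˣ) φ hgd T hTk T).1
      fun k hk m hm => commute_of_dual_trivial hMab (MonoidHom.mem_ker.mp (hTk hk)) m hm
    exact hnn T' hT'
  obtain ⟨π, hπ⟩ := exists_projection M K hsup hdis
  exact core_range (X := M →* ℂˣ) φ hqr (dual_irreducible hMab hsup hMfix hmin) (hgood hpq) (hgood hpr)
    (hker (hgood hpq) hQn) (hker (hgood hpr) hRn) (hap.of_surjective π hπ)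

end Cfsg.Agent.H17.Palfy
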