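import Cfsg.Agent.H17.Palfy.NormalSylow

/-!
# The case of a non-abelian normal Sylow subgroup
-/

set_option autoImplicit false
set_option linter.all false

namespace Cfsg.Agent.H17.Palfy

open scoped commutatorElement

variable {G : Type*} [Group G] [Finite G]

/-- Two proper subgroups do not cover a group. -/
theorem exists_not_mem_two {A : Type*} [Group A] (X Y : Subgroup A) (hX : X ≠ ⊤) (hY : Y ≠ ⊤) :
    ∃ a, a ∉ X ∧ a ∉ Y := by
  by_contra hcon
  push Not at hcon
  obtain ⟨a, ha⟩ : ∃ a, a ∉ X := by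
    by_contra h
    push Not at h
    exact hX (top_unique fun a _ => h a)
  obtain ⟨b, hb⟩ : ∃ b, b ∉ Y := by
    by_contra h
    push Not at h
    exact hY (top_unique fun a _ => h a)
  have haY := hcon a ha
  have hbX : b ∈ X := by
    by_contra h
    exact hb (hcon b h)
  by_cases h : a * b ∈ X
  · exact ha (by simpa using mul_mem h (inv_mem hbX))
  · exact hb (by simpa using mul_mem (inv_mem haY) (hcon _ h))

namespace Setting

variable {p q r : ℕ} [Fact p.Prime] [Fact q.Prime] [Fact r.Prime] {M P K : Subgroup G}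
  [hMn : M.Normal] [hPn : P.Normal] (S : Setting p M P K)
include S

/-- The fixed points of the Sylow subgroup in `P`. -/
theorem ne_one_moved [Group.IsSolvable G] (hpq : p ≠ q) (T : Sylow q K) {ν : P →* ℂˣ}
    (hfix : ∀ k ∈ (T : Subgroup K), k ∈ stabOf (dualAct P K) ν)
    (hC : ∀ x : P, (x : G) ∈ Subgroup.centralizer ((T : Subgroup K).map K.subtype : Set G) →
      ν x = 1) : ν = 1 := by
  refine eq_one_of_fixed P ((T : Subgroup K).map K.subtype) ?_ ν ?_ hC
  · obtain ⟨i, hi⟩ := IsPGroup.iff_card.mp (T.isPGroup'.map K.subtype)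
    obtain ⟨j, hj⟩ := IsPGroup.iff_card.mp S.pgroup
    rw [hi, hj]
    exact Nat.Coprime.pow _ _ ((Nat.coprime_primes Fact.out Fact.out).mpr hpq.symm)
  · rintro _ ⟨k, hk, rfl⟩ x
    exact fixed_of_mem_stab (hfix k hk) x

omit [Fact p.Prime] in
/-- Outside the fixed points there is a linear character killing them. -/
theorem exists_kills (T : Sylow q K)
    (hTc : ∀ k ∈ (T : Subgroup K), ∀ m ∈ M, (k : G) * m = m * k) {x : P}
    (hx : (x : G) ∉ Subgroup.centralizer ((T : Subgroup K).map K.subtype : Set G)) :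
    ∃ ν : P →* ℂˣ, (∀ c : P, (c : G) ∈ Subgroup.centralizer ((T : Subgroup K).map K.subtype : Set G) →
      ν c = 1) ∧ ν x ≠ 1 := by
  obtain ⟨ν, hν, hνx⟩ := exists_linear_separating
    ((Subgroup.centralizer ((T : Subgroup K).map K.subtype : Set G)).subgroupOf P) (x := x)
    fun c hc d hd e => hx (by
      have hdM : (d : G) ∈ M := by
        rw [← S.der, ← Subgroup.map_subtype_commutator]
        exact ⟨d, hd, rfl⟩
      rw [e, Subgroup.coe_mul]
      refine mul_mem (Subgroup.mem_subgroupOf.mp hc) (Subgroup.mem_centralizer_iff.mpr ?_)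
      rintro _ ⟨k, hk, rfl⟩
      exact hTc k hk _ hdM)
  exact ⟨ν, fun c hc => hν c (Subgroup.mem_subgroupOf.mpr hc), hνx⟩

/-- A normal Sylow subgroup of the complement centralising `M` moves an element of `P`. -/
theorem exists_moved_element (hpq : p ≠ q) (hgood : ¬ Good q G) (T : Sylow q K)
    (hTn : (T : Subgroup K).Normal) (hTab : IsMulCommutative (T : Subgroup K)) :
    ∃ k ∈ (T : Subgroup K), ∃ y ∈ P, (k : G) * y ≠ y * k := by
  by_contra hcon
  push Not at hcon
  apply hgood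
  obtain ⟨T', hT'⟩ := exists_normal_sylow P K S.sup S.dis S.pgroup T hTn hcon
  intro W
  haveI := Sylow.unique_of_normal T' hT'
  obtain rfl : W = T' := Subsingleton.elim _ _
  refine ⟨hT', ?_⟩
  obtain ⟨Q₀, hQ₀⟩ := (T.isPGroup'.map K.subtype).exists_le_sylow
  obtain rfl : Q₀ = W := Subsingleton.elim _ _
  have hidx : ¬ q ∣ ((T : Subgroup K).map K.subtype).index := by
    have hc : Subgroup.IsComplement' P K :=
      Subgroup.isComplement'_of_disjoint_and_mul_eq_univ (disjoint_iff.mpr S.dis) (by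
        rw [← Subgroup.normal_mul P K, S.sup]; rfl)
    rw [Subgroup.index_map_subtype, hc.index_eq_card]
    intro h
    rcases (Fact.out : q.Prime).dvd_mul.mp h with h | h
    · exact T.not_dvd_index h
    · exact S.card_ne hpq h
  have e : (Q₀ : Subgroup G) = (T : Subgroup K).map K.subtype :=
    ((T.isPGroup'.map K.subtype).toSylow hidx).is_maximal' Q₀.isPGroup'
      (by rw [IsPGroup.toSylow_coe]; exact hQ₀) |>.trans (IsPGroup.toSylow_coe _ _)
  rw [e]
  refine ⟨⟨?_⟩⟩
  rintro ⟨_, a, ha, rfl⟩ ⟨_, b, hb, rfl⟩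
  exact Subtype.ext (congrArg (fun z : (T : Subgroup K) => ((z : K) : G))
    (hTab.is_comm.comm ⟨a, ha⟩ ⟨b, hb⟩))

/-- Some linear character of `P` is moved. -/
theorem exists_moved_char [Group.IsSolvable G] (hpq : p ≠ q) (hgood : ¬ Good q G) (T : Sylow q K)
    (hTn : (T : Subgroup K).Normal) (hTab : IsMulCommutative (T : Subgroup K))
    (hTc : ∀ k ∈ (T : Subgroup K), ∀ m ∈ M, (k : G) * m = m * k) :
    ∃ ν : P →* ℂˣ, ∃ k ∈ (T : Subgroup K), k ∉ stabOf (dualAct P K) ν := by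
  obtain ⟨k, hk, y, hy, hky⟩ := S.exists_moved_element hpq hgood T hTn hTab
  obtain ⟨ν, hνC, hνy⟩ := S.exists_kills T hTc (x := ⟨y, hy⟩) fun h => hky
    (Subgroup.mem_centralizer_iff.mp h k ⟨k, hk, rfl⟩)
  by_contra hcon
  push Not at hcon
  exact hνy (by rw [S.ne_one_moved hpq T (hcon ν) hνC]; rfl)

/-- Some degree is divisible by both primes when both Sylow subgroups of the complement are normal. -/
theorem false_of_two [Group.IsSolvable G] (hpq : p ≠ q) (hpr : p ≠ r) (hap : Apart q r G)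
    (hgq : ¬ Good q G) (hgr : ¬ Good r G)
    (T : Sylow q K) (hTn : (T : Subgroup K).Normal) (hTab : IsMulCommutative (T : Subgroup K))
    (hTc : ∀ k ∈ (T : Subgroup K), ∀ m ∈ M, (k : G) * m = m * k)
    (R : Sylow r K) (hRn : (R : Subgroup K).Normal) (hRab : IsMulCommutative (R : Subgroup K))
    (hRc : ∀ k ∈ (R : Subgroup K), ∀ m ∈ M, (k : G) * m = m * k) : False := by
  obtain ⟨ν₁, k₁, hk₁, hν₁⟩ := S.exists_moved_char hpq hgq T hTn hTab hTc
  obtain ⟨ν₂, k₂, hk₂, hν₂⟩ := S.exists_moved_char hpr hgr R hRn hRab hRc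
  obtain ⟨ν, ha, hb⟩ := exists_not_mem_two (fixedBy (X := P →* ℂˣ) (dualAct P K) (T : Subgroup K))
    (fixedBy (X := P →* ℂˣ) (dualAct P K) (R : Subgroup K))
    (fun e => hν₁ (mem_stabOf.mpr ((e.symm ▸ Subgroup.mem_top ν₁ :
      ν₁ ∈ fixedBy (X := P →* ℂˣ) (dualAct P K) (T : Subgroup K)) k₁ hk₁)))
    (fun e => hν₂ (mem_stabOf.mpr ((e.symm ▸ Subgroup.mem_top ν₂ :
      ν₂ ∈ fixedBy (X := P →* ℂˣ) (dualAct P K) (R : Subgroup K)) k₂ hk₂)))
  have hPν : P ≤ linStabilizer P ν := fun y hy => mem_linStabilizer.mpr fun n => by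
    rw [show (⟨y * n * y⁻¹, hPn.conj_mem n n.2 y⟩ : P) = ⟨y, hy⟩ * n * (⟨y, hy⟩ : P)⁻¹ from rfl,
      map_mul, map_mul, map_inv, mul_comm, inv_mul_cancel_left]
  have hdvd : ∀ {t : ℕ} [Fact t.Prime] (U : Sylow t K), (U : Subgroup K).Normal →
      ν ∉ fixedBy (X := P →* ℂˣ) (dualAct P K) (U : Subgroup K) →
      t ∣ (stabOf (dualAct P K) ν).index := by
    intro t _ U hU hν
    by_contra hnd
    obtain ⟨U', hU'⟩ := H25.exists_sylow_le_of_not_dvd_index _ hnd
    haveI := Sylow.unique_of_normal U hU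
    exact hν fun k hk => mem_stabOf.mp (hU' (Subsingleton.elim U U' ▸ hk))
  obtain ⟨χ, hχ⟩ := exists_index_linStabilizer_dvd P ν
  rw [← index_stabOf P P K S.sup S.dis ν hPν] at hχ
  exact hap χ ((hdvd T hTn ha).trans hχ) ((hdvd R hRn hb).trans hχ)

/-- One Sylow subgroup of the complement acts trivially on the dual of `M`. -/
theorem false_of_trivial [Group.IsSolvable G] [Nontrivial (M →* ℂˣ)] (hpq : p ≠ q) (hpr : p ≠ r)
    (hapq : Apart p q G) (hap : Apart q r G) (hgq : ¬ Good q G) (hgr : ¬ Good r G)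
    (hq : StabGood (X := M →* ℂˣ) (dualAct M K) q) (hr : StabGood (X := M →* ℂˣ) (dualAct M K) r)
    (hnd : ¬ q ∣ Nat.card (dualAct M K).range) : False := by
  classical
  obtain ⟨T⟩ : Nonempty (Sylow q K) := inferInstance
  have hTker := sylow_le_ker (X := M →* ℂˣ) (dualAct M K) hnd T
  have hTg := StabGood.good_of_le_ker (X := M →* ℂˣ) (dualAct M K) hq T hTker T
  obtain ⟨hTn, hTab⟩ := hTg
  have hTc : ∀ k ∈ (T : Subgroup K), ∀ m ∈ M, (k : G) * m = m * k := fun k hk m hm =>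
    commute_of_dual_trivial S.mab (MonoidHom.mem_ker.mp (hTker hk)) m hm
  obtain ⟨R⟩ : Nonempty (Sylow r K) := inferInstance
  by_cases hRn : (R : Subgroup K).Normal
  · have hRker : (R : Subgroup K) ≤ (dualAct M K).ker := by
      intro k hk
      refine MonoidHom.mem_ker.mpr (MulEquiv.ext fun f => ?_)
      by_cases hf : f = 1
      · rw [hf, map_one, map_one]
      · obtain ⟨R', hR', -⟩ := StabGood.exists_sylow (X := M →* ℂˣ) (dualAct M K) hr hf
        haveI := Sylow.unique_of_normal R hRn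
        exact mem_stabOf.mp (hR' (Subsingleton.elim R R' ▸ hk))
    exact S.false_of_two hpq hpr hap hgq hgr T hTn hTab hTc R hRn
      (StabGood.comm (X := M →* ℂˣ) (dualAct M K) hr R)
      fun k hk m hm => commute_of_dual_trivial S.mab (MonoidHom.mem_ker.mp (hRker hk)) m hm
  -- the linear characters killing the fixed points
  set C : Subgroup G := Subgroup.centralizer ((T : Subgroup K).map K.subtype : Set G) with hC
  let X₂ : Subgroup (P →* ℂˣ) :=
    { carrier := {ν | ∀ c : P, (c : G) ∈ C → ν c = 1}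
      one_mem' := fun c _ => rfl
      mul_mem' := fun {a b} ha hb c hc => by rw [MonoidHom.mul_apply, ha c hc, hb c hc, one_mul]
      inv_mem' := fun {a} ha c hc => by rw [MonoidHom.inv_apply, ha c hc, inv_one] }
  have hX₂ : ∀ k : K, ∀ ν ∈ X₂, dualAct P K k ν ∈ X₂ := by
    intro k ν hν c hc
    rw [dualAct_apply]
    refine hν _ (Subgroup.mem_centralizer_iff.mpr ?_)
    rintro _ ⟨t, ht, rfl⟩
    have ht' : ((k * t * k⁻¹ : K) : G) ∈ (T : Subgroup K).map K.subtype :=
      ⟨k * t * k⁻¹, hTn.conj_mem t ht k, rfl⟩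
    have h := Subgroup.mem_centralizer_iff.mp hc _ ht'
    rw [MulAut.conjNormal_apply, inv_inv]
    show (t : G) * ((k : G)⁻¹ * c * k) = (k : G)⁻¹ * c * k * t
    push_cast at h
    calc (t : G) * ((k : G)⁻¹ * c * k) = (k : G)⁻¹ * ((k : G) * t * (k : G)⁻¹ * c) * k := by group
      _ = _ := by rw [h]; group
  let φ₂ : K →* AutOf X₂ := H43.restrictAut (dualAct P K) X₂ hX₂
  have hstab : ∀ v : X₂, stabOf φ₂ v = stabOf (dualAct P K) (v : P →* ℂˣ) := by
    intro v
    ext k
    rw [mem_stabOf, mem_stabOf]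
    exact ⟨fun h => congrArg Subtype.val h, fun h => Subtype.ext h⟩
  have hsg : StabGood (X := X₂) φ₂ r := by
    intro v hv
    rw [hstab]
    have hPv : P ≤ linStabilizer P (v : P →* ℂˣ) := fun y hy => mem_linStabilizer.mpr fun n => by
      rw [show (⟨y * n * y⁻¹, hPn.conj_mem n n.2 y⟩ : P) = ⟨y, hy⟩ * n * (⟨y, hy⟩ : P)⁻¹ from rfl,
        map_mul, map_mul, map_inv, mul_comm, inv_mul_cancel_left]
    refine good_of_linear P K S.sup S.dis (v : P →* ℂˣ) hPv hap ?_
    by_contra hq'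
    obtain ⟨T', hT'⟩ := H25.exists_sylow_le_of_not_dvd_index _ hq'
    haveI := Sylow.unique_of_normal T hTn
    exact hv (Subtype.ext (S.ne_one_moved hpq T (fun k hk => hT' (Subsingleton.elim T T' ▸ hk)) v.2))
  -- an element moved by the Sylow subgroup
  obtain ⟨k, hk, y, hy, hky⟩ := S.exists_moved_element hpq hgq T hTn hTab
  set x : G := y * k * y⁻¹ * (k : G)⁻¹ with hxdef
  have hx : x ∈ P := by
    rw [hxdef, show y * k * y⁻¹ * (k : G)⁻¹ = y * ((k : G) * y⁻¹ * (k : G)⁻¹) by group]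
    exact mul_mem hy (hPn.conj_mem _ (inv_mem hy) k)
  have hxk : (k : G) * x ≠ x * k := fun e => hky (by
    have := eq_one_of_conj (t := y) (g := (k : G)) (c := x) rfl e
      (S.coprime_orderOf hx T.isPGroup' ⟨k, hk, rfl⟩ hpq)
    rw [hxdef, mul_inv_eq_one, mul_inv_eq_iff_eq_mul] at this
    exact this.symm)
  have hxc : ∀ (c : P), (c : G) ∈ C → ⁅x, (c : G)⁆ = 1 := by
    intro c hc
    have hkc : (k : G) * c = c * k := Subgroup.mem_centralizer_iff.mp hc k ⟨k, hk, rfl⟩
    have hy' : (k : G) * y⁻¹ * (k : G)⁻¹ ∈ P := hPn.conj_mem _ (inv_mem hy) k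
    have e2 : ⁅(k : G) * y⁻¹ * (k : G)⁻¹, (c : G)⁆ = ⁅y⁻¹, (c : G)⁆ := by
      have h3 := hTc k hk _ (S.comm_mem (inv_mem hy) c.2)
      have h5 : (k : G) * c * (k : G)⁻¹ = c := by rw [hkc, mul_inv_cancel_right]
      calc ⁅(k : G) * y⁻¹ * (k : G)⁻¹, (c : G)⁆
          = ⁅(k : G) * y⁻¹ * (k : G)⁻¹, (k : G) * c * (k : G)⁻¹⁆ := by rw [h5]
        _ = (k : G) * ⁅y⁻¹, (c : G)⁆ * (k : G)⁻¹ := (conjugate_commutatorElement _ _ _).symm
        _ = _ := by rw [h3, mul_inv_cancel_right]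
    rw [hxdef, show y * k * y⁻¹ * (k : G)⁻¹ = y * ((k : G) * y⁻¹ * (k : G)⁻¹) by group,
      S.comm_mul hy hy' c.2, e2, ← S.comm_mul hy (inv_mem hy) c.2, mul_inv_cancel]
    simp
  let cm : P →* M :=
    { toFun := fun z => ⟨⁅x, (z : G)⁆, S.comm_mem hx z.2⟩
      map_one' := Subtype.ext (by simp)
      map_mul' := fun a b => Subtype.ext (S.comm_mul_right hx a.2 b.2) }
  let ι : (M →* ℂˣ) →* X₂ :=
    { toFun := fun f => ⟨f.comp cm, fun c hc => by
        rw [MonoidHom.comp_apply, show cm c = 1 from Subtype.ext (hxc c hc), map_one]⟩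
      map_one' := rfl
      map_mul' := fun a b => rfl }
  have hι : Function.Injective ι := by
    refine (injective_iff_map_eq_one ι).mpr fun f hf => ?_
    by_contra hf1
    refine hxk (S.radical_commute hpq hapq T hTn hTc hf1 hx (fun z hz => ?_) k hk)
    exact DFunLike.congr_fun (congrArg Subtype.val hf) ⟨z, hz⟩
  have hns : ¬ Function.Surjective ι := by
    intro hs
    obtain ⟨ν, hνC, hνx⟩ := S.exists_kills T hTc (x := ⟨x, hx⟩)
      fun h => hxk (Subgroup.mem_centralizer_iff.mp h k ⟨k, hk, rfl⟩)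
    obtain ⟨f, hf⟩ := hs ⟨ν, hνC⟩
    apply hνx
    rw [← show (ι f : P →* ℂˣ) = ν from congrArg Subtype.val hf]
    show f (cm _) = 1
    rw [show cm ⟨x, hx⟩ = 1 from Subtype.ext (commutatorElement_self x), map_one]
  have hlt : Nat.card (M →* ℂˣ) < Nat.card X₂ := by
    refine lt_of_le_of_ne (Nat.card_le_card_of_injective ι hι) fun e => hns ?_
    exact ((Nat.bijective_iff_injective_and_card ι).mpr ⟨hι, e⟩).2
  haveI : Nontrivial X₂ := hι.nontrivial
  have hpX : ∀ {Y : Subgroup G} [Y.Normal] (Z : Subgroup (Y →* ℂˣ)), IsPGroup p Y → IsPGroup p Z := by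
    intro Y _ Z hY
    rintro ⟨ν, hν⟩
    obtain ⟨j, hj⟩ := IsPGroup.iff_card.mp hY
    refine ⟨j, Subtype.ext (MonoidHom.ext fun z => ?_)⟩
    show (ν ^ p ^ j) z = 1
    rw [MonoidHom.pow_apply, ← map_pow, ← hj, pow_card_eq_one', map_one]
  obtain ⟨a, n, ha, han, hn, heq⟩ := StabGood.count (X := X₂) φ₂ (hpX X₂ S.pgroup) hsg R hRn
  have hpV : IsPGroup p (M →* ℂˣ) := by
    refine fun ν => ?_
    obtain ⟨j, hj⟩ := IsPGroup.iff_card.mp (S.pgroup.to_le S.le)
    refine ⟨j, MonoidHom.ext fun z => ?_⟩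
    rw [MonoidHom.pow_apply, ← map_pow, ← hj, pow_card_eq_one', map_one, MonoidHom.one_apply]
  obtain ⟨b, m, hb, hbm, hm, heq'⟩ := StabGood.count (X := M →* ℂˣ) (dualAct M K) hpV hr R hRn
  have := exponent_eq Fact.out ha han hb hbm heq heq'
  rw [hn, hm, this] at hlt
  exact lt_irrefl _ hlt

/-- The case of a non-abelian normal Sylow subgroup. -/
theorem case_normal [Group.IsSolvable G] (hM : M ≠ ⊥) (hpq : p ≠ q) (hpr : p ≠ r) (hqr : q ≠ r)
    (hapq : Apart p q G) (hapr : Apart p r G) (hap : Apart q r G)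
    (hgq : ¬ Good q G) (hgr : ¬ Good r G) : False := by
  haveI : Nontrivial M := (Subgroup.nontrivial_iff_ne_bot M).mpr hM
  haveI : Nontrivial (M →* ℂˣ) := nontrivial_dual S.mab
  have hq : StabGood (X := M →* ℂˣ) (dualAct M K) q := fun f hf =>
    good_of_class_two M P K S.le S.central S.sup S.dis S.pgroup S.coprime S.der.ge hapq f hf
  have hr : StabGood (X := M →* ℂˣ) (dualAct M K) r := fun f hf =>
    good_of_class_two M P K S.le S.central S.sup S.dis S.pgroup S.coprime S.der.ge hapr f hf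
  by_cases h1 : q ∣ Nat.card (dualAct M K).range
  · by_cases h2 : r ∣ Nat.card (dualAct M K).range
    · obtain ⟨π, hπ⟩ := exists_projection P K S.sup S.dis
      exact core_range (X := M →* ℂˣ) (dualAct M K) hqr
        (dual_irreducible S.mab S.sup S.le_stab S.min) hq hr h1 h2 (hap.of_surjective π hπ)
    · exact S.false_of_trivial hpr hpq hapr hap.symm hgr hgq hr hq h2
  · exact S.false_of_trivial hpq hpr hapq hap hgq hgr hq hr h1

end Setting

end Cfsg.Agent.H17.Palfy
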