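import Cfsg.Agent.H17.Palfy.Setting
import Cfsg.Agent.H20.FixedPoints
import Cfsg.Agent.H23.ClassTwo
import Cfsg.Agent.H45.RelOperator

/-!
# Sylow subgroups and normal subgroups of class two

In the setting of `Setting`, let `T` be a non-abelian normal `ℓ`-subgroup, a chief factor above
the semiregular abelian group `C`. A Sylow `q`-subgroup centralising `T ∩ C` centralises `T`,
unless `q = 3`, `ℓ = 2` and `|T ∩ C| = 2`.
-/

set_option autoImplicit false
set_option linter.all false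

namespace Cfsg.Agent.H17.Palfy

open scoped commutatorElement

variable {H : Type*} [Group H]

/-- A non-abelian normal `ℓ`-subgroup of class two which is a chief factor above `C`. -/
structure Sec (C T : Subgroup H) (ℓ : ℕ) : Prop where
  prime : ℓ.Prime
  normalC : C.Normal
  normalT : T.Normal
  pgroup : IsPGroup ℓ T
  nonab : ∃ a ∈ T, ∃ b ∈ T, a * b ≠ b * a
  comm : ∀ a ∈ T, ∀ c ∈ C, a * c = c * a
  der : ∀ a ∈ T, ∀ b ∈ T, ⁅a, b⁆ ∈ C
  pow : ∀ a ∈ T, a ^ ℓ ∈ C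
  chief : ∀ W : Subgroup H, W.Normal → T ⊓ C ≤ W → W ≤ T → W = T ⊓ C ∨ W = T

namespace Sec

variable {C T : Subgroup H} {ℓ : ℕ} (hT : Sec C T ℓ)
include hT

theorem der_mem {a b : H} (ha : a ∈ T) (hb : b ∈ T) : ⁅a, b⁆ ∈ T ⊓ C :=
  Subgroup.mem_inf.mpr ⟨by
    rw [commutatorElement_def]
    exact mul_mem (mul_mem (mul_mem ha hb) (inv_mem ha)) (inv_mem hb), hT.der a ha b hb⟩

/-- The centre of `T` lies in `C`. -/
theorem mem_of_central {a : H} (ha : a ∈ T) (h : ∀ b ∈ T, a * b = b * a) : a ∈ C := by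
  haveI := hT.normalT
  set W : Subgroup H := T ⊓ Subgroup.centralizer (T : Set H) with hW
  haveI : W.Normal := inferInstance
  have haW : a ∈ W := Subgroup.mem_inf.mpr
    ⟨ha, Subgroup.mem_centralizer_iff.mpr fun b hb => (h b hb).symm⟩
  rcases hT.chief W inferInstance (fun c hc => Subgroup.mem_inf.mpr ⟨(Subgroup.mem_inf.mp hc).1,
      Subgroup.mem_centralizer_iff.mpr fun b hb => hT.comm b hb c (Subgroup.mem_inf.mp hc).2⟩)
      inf_le_left with e | e
  · exact (Subgroup.mem_inf.mp (e ▸ haW)).2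
  · obtain ⟨x, hx, y, hy, hxy⟩ := hT.nonab
    exact absurd (Subgroup.mem_centralizer_iff.mp
      (Subgroup.mem_inf.mp (e.symm ▸ hy : y ∈ W)).2 x hx) hxy

/-- Commutators are `ℓ`-th roots of unity. -/
theorem der_pow {a b : H} (ha : a ∈ T) (hb : b ∈ T) : ⁅a, b⁆ ^ ℓ = 1 := by
  have hc : Commute ⁅a, b⁆ a := (hT.comm a ha _ (hT.der a ha b hb)).symm
  rw [← H23.commutator_pow_left hc, commutatorElement_eq_one_iff_mul_comm]
  exact (hT.comm b hb _ (hT.pow a ha)).symm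

/-- Outside the exceptional case every coset of `T ∩ C` contains an element of order dividing `ℓ`. -/
theorem exists_root [Finite H] [IsCyclic ↥(T ⊓ C)] (hne : ℓ ≠ 2 ∨ Nat.card ↥(T ⊓ C) ≠ 2)
    {y : H} (hy : y ∈ T) : ∃ z ∈ T ⊓ C, (y * z) ^ ℓ = 1 := by
  haveI := hT.normalT
  haveI := hT.normalC
  haveI := Fact.mk hT.prime
  obtain ⟨g, hg⟩ := IsCyclic.exists_monoid_generator (α := ↥(T ⊓ C))
  have hgen : ∀ z ∈ T ⊓ C, ∃ k : ℕ, (g : H) ^ k = z := fun z hz => by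
    obtain ⟨k, hk⟩ := hg ⟨z, hz⟩
    exact ⟨k, by have := congrArg Subtype.val hk; simpa using this⟩
  have hZc : ∀ z ∈ T ⊓ C, ∀ a ∈ T, a * z = z * a := fun z hz a ha =>
    hT.comm a ha z (Subgroup.mem_inf.mp hz).2
  have hmul : ∀ a ∈ T, ∀ b ∈ T, ∃ w ∈ T ⊓ C, (a * b) ^ ℓ = a ^ ℓ * b ^ ℓ * w ^ ℓ := by
    intro a ha b hb
    have hc := hT.der_mem hb ha
    have hpw := H23.mul_pow_class_two (x := a) (y := b) (hZc _ hc a ha).symm (hZc _ hc b hb).symm ℓ
    by_cases h2 : ℓ = 2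
    · subst h2
      obtain ⟨k, hk⟩ := hgen _ hc
      have hsq : (g : H) ^ (k * 2) = 1 := by rw [pow_mul, hk]; exact hT.der_pow hb ha
      have hord : Nat.card ↥(T ⊓ C) ∣ k * 2 := by
        rw [← orderOf_eq_card_of_forall_mem_powers hg, ← Subgroup.orderOf_coe]
        exact orderOf_dvd_of_pow_eq_one hsq
      obtain ⟨j, hj⟩ := IsPGroup.iff_card.mp (hT.pgroup.to_le (inf_le_left : T ⊓ C ≤ T))
      have hk2 : ∃ i, k = 2 * i ∨ Nat.card ↥(T ⊓ C) = 1 := by
        rcases Nat.lt_or_ge j 2 with hj2 | hj2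
        · interval_cases j
          · exact ⟨0, Or.inr (by simpa using hj)⟩
          · exact absurd (by simpa using hj) (hne.resolve_left (by simp))
        · have h4 : 4 ∣ k * 2 := dvd_trans (hj ▸ pow_dvd_pow 2 hj2) hord
          exact ⟨k / 2, Or.inl (by omega)⟩
      obtain ⟨i, hi⟩ := hk2
      refine ⟨(g : H) ^ i, pow_mem g.2 i, ?_⟩
      rw [hpw]
      simp only [Nat.choose_self, pow_one, ← hk]
      rcases hi with rfl | h1
      · rw [← pow_mul, mul_comm i 2]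
      · have hg1 : (g : H) = 1 := by
          haveI := (Nat.card_eq_one_iff_unique.mp h1).1
          exact congrArg Subtype.val (Subsingleton.elim g 1)
        simp [hg1]
    · refine ⟨1, one_mem _, ?_⟩
      obtain ⟨m, hm⟩ : ℓ ∣ ℓ.choose 2 :=
        hT.prime.dvd_choose_self (by omega) (by have := hT.prime.two_le; omega)
      rw [hpw, hm, pow_mul, hT.der_pow hb ha, one_pow, one_pow]
  let S : Subgroup H :=
    { carrier := {a | a ∈ T ∧ ∃ z ∈ T ⊓ C, a ^ ℓ = z ^ ℓ}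
      one_mem' := ⟨one_mem _, 1, one_mem _, rfl⟩
      mul_mem' := by
        rintro a b ⟨ha, z, hz, ea⟩ ⟨hb, z', hz', eb⟩
        obtain ⟨w, hw, e⟩ := hmul a ha b hb
        refine ⟨mul_mem ha hb, z * z' * w, mul_mem (mul_mem hz hz') hw, ?_⟩
        have c1 : Commute z z' := (hT.comm z (Subgroup.mem_inf.mp hz).1 z' (Subgroup.mem_inf.mp hz').2)
        have c2 : Commute (z * z') w :=
          hT.comm _ (Subgroup.mem_inf.mp (mul_mem hz hz')).1 w (Subgroup.mem_inf.mp hw).2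
        rw [e, ea, eb, c2.mul_pow, c1.mul_pow]
      inv_mem' := by
        rintro a ⟨ha, z, hz, ea⟩
        exact ⟨inv_mem ha, z⁻¹, inv_mem hz, by rw [inv_pow, inv_pow, ea]⟩ }
  haveI : S.Normal := ⟨by
    rintro a ⟨ha, z, hz, ea⟩ h
    exact ⟨hT.normalT.conj_mem a ha h, h * z * h⁻¹, (inferInstance : (T ⊓ C).Normal).conj_mem z hz h,
      by rw [conj_pow, conj_pow, ea]⟩⟩
  rcases hT.chief S inferInstance (fun z hz => ⟨(Subgroup.mem_inf.mp hz).1, z, hz, rfl⟩)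
      (fun a ha => ha.1) with e | e
  · exfalso
    obtain ⟨a, ha, haC⟩ : ∃ a ∈ T, a ∉ C := by
      obtain ⟨a, ha, b, hb, hab⟩ := hT.nonab
      exact ⟨b, hb, fun hbC => hab (hT.comm a ha b hbC)⟩
    obtain ⟨k, hk⟩ := hgen _ (Subgroup.mem_inf.mpr ⟨pow_mem ha ℓ, hT.pow a ha⟩)
    have hkℓ : (k : ZMod ℓ) ≠ 0 := by
      intro h0
      obtain ⟨i, rfl⟩ := (ZMod.natCast_eq_zero_iff k ℓ).mp h0
      have haS : a ∈ S := ⟨ha, (g : H) ^ i, pow_mem g.2 i, by rw [← hk, ← pow_mul, mul_comm]⟩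
      exact haC (Subgroup.mem_inf.mp (e ▸ haS)).2
    refine haC (hT.mem_of_central ha fun b hb => ?_)
    obtain ⟨j, hj⟩ := hgen _ (Subgroup.mem_inf.mpr ⟨pow_mem hb ℓ, hT.pow b hb⟩)
    set i : ℕ := (-(j : ZMod ℓ) / (k : ZMod ℓ)).val with hi
    have hdiv : ℓ ∣ j + k * i := by
      rw [← ZMod.natCast_eq_zero_iff]
      push_cast
      rw [hi, ZMod.natCast_zmod_val, mul_div_cancel₀ _ hkℓ, add_neg_cancel]
    obtain ⟨m, hm⟩ := hdiv
    obtain ⟨w, hw, e2⟩ := hmul b hb (a ^ i) (pow_mem ha i)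
    have hS : b * a ^ i ∈ S := by
      refine ⟨mul_mem hb (pow_mem ha i), (g : H) ^ m * w, mul_mem (pow_mem g.2 m) hw, ?_⟩
      have c : Commute ((g : H) ^ m) w :=
        hT.comm _ (Subgroup.mem_inf.mp (pow_mem g.2 m)).1 w (Subgroup.mem_inf.mp hw).2
      rw [e2, c.mul_pow, ← hj, ← pow_mul, mul_comm i ℓ, pow_mul, ← hk, ← pow_mul, ← pow_add, hm,
        ← pow_mul, mul_comm ℓ m]
    have hc : a * (b * a ^ i) = (b * a ^ i) * a := hT.comm a ha _ (Subgroup.mem_inf.mp (e ▸ hS)).2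
    rw [mul_assoc b, ← pow_succ, pow_succ', ← mul_assoc, ← mul_assoc] at hc
    exact mul_right_cancel hc
  · obtain ⟨-, z, hz, ez⟩ := (e.symm ▸ hy : y ∈ S)
    refine ⟨z⁻¹, inv_mem hz, ?_⟩
    have c : Commute y z⁻¹ := hT.comm y hy _ (inv_mem (Subgroup.mem_inf.mp hz).2)
    rw [c.mul_pow, ez, inv_pow, mul_inv_cancel]

variable {V : Type*} [CommGroup V] [MulDistribMulAction H V] {q : ℕ} (hq : Loc q H V)
include hq

/-- The primes differ, the Sylow `q`-subgroups being abelian. -/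
theorem prime_ne [Finite H] : q ≠ ℓ := by
  rintro rfl
  haveI := Fact.mk hq.prime
  obtain ⟨Q, hQ⟩ := hT.pgroup.exists_le_sylow
  obtain ⟨a, ha, b, hb, hab⟩ := hT.nonab
  haveI := hq.comm Q
  exact hab (setLike_mul_comm (hQ ha) (hQ hb))

/-- The structure around a vector with maximal stabiliser in `T`. -/
theorem core [Finite H] [Finite V] [Nontrivial V] [IsCyclic ↥(T ⊓ C)]
    (hC : ∀ c ∈ C, ∀ v : V, v ≠ 1 → c • v = v → c = 1)
    (Q : Sylow q H) (hQC : ∀ c ∈ T ⊓ C, ∀ g ∈ (Q : Subgroup H), g * c = c * g) :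
    ∃ M M₁ : Subgroup H, M ≤ M₁ ∧ M₁ ≤ T ∧ T ⊓ C ≤ M ∧
      (Q : Subgroup H) ≤ Subgroup.centralizer (M : Set H) ∧
      (Q : Subgroup H) ≤ Subgroup.normalizer (M₁ : Set H) ∧
      (∀ t ∈ T, ∀ g ∈ (Q : Subgroup H), t * g * t⁻¹ * g⁻¹ ∈ M₁) ∧
      (∀ m ∈ M, ∀ y ∈ M₁, y * m = m * y) ∧
      ((ℓ ≠ 2 ∨ Nat.card ↥(T ⊓ C) ≠ 2) → M₁ ≤ M) ∧
      (ℓ = 2 → Nat.card ↥(T ⊓ C) = 2 → ∃ a ∈ M₁, ∃ b ∈ M₁, ∀ y ∈ M₁,
        y ∈ M ∨ a⁻¹ * y ∈ M ∨ b⁻¹ * y ∈ M ∨ (a * b)⁻¹ * y ∈ M) := by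
  haveI := hT.normalT
  haveI := hT.normalC
  haveI := Fact.mk hq.prime
  set S : V → Subgroup H := fun v => T ⊓ MulAction.stabilizer H v with hS
  obtain ⟨v₁, hv₁⟩ := exists_ne (1 : V)
  obtain ⟨v₂, hv₂, hmax₂⟩ := Set.exists_max_image {v : V | v ≠ 1} (fun v => Nat.card (S v))
    (Set.toFinite _) ⟨v₁, hv₁⟩
  obtain ⟨Q₂, hQ₂, -⟩ := hq.fix v₂ hv₂
  obtain ⟨h, hh⟩ := MulAction.exists_smul_eq H Q₂ Q
  set v := h • v₂ with hvdef
  have hv : v ≠ 1 := fun e => hv₂ (by simpa [hvdef] using congrArg (h⁻¹ • ·) e)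
  have hQv : (Q : Subgroup H) ≤ MulAction.stabilizer H v := by
    intro x hx
    rw [← hh, Sylow.coe_subgroup_smul] at hx
    obtain ⟨y, hy, rfl⟩ := hx
    show (h * y * h⁻¹) • (h • v₂) = h • v₂
    rw [smul_smul, inv_mul_cancel_right, mul_smul, hQ₂ hy]
  have hcard : Nat.card (S v₂) ≤ Nat.card (S v) := by
    have e : Nat.card ((S v₂).map (MulAut.conj h).toMonoidHom) = Nat.card (S v₂) :=
      Subgroup.card_map_of_injective (MulAut.conj h).injective
    rw [← e]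
    refine Subgroup.card_le_of_le ?_
    rintro _ ⟨y, hy, rfl⟩
    refine Subgroup.mem_inf.mpr ⟨hT.normalT.conj_mem y (Subgroup.mem_inf.mp hy).1 h, ?_⟩
    show (h * y * h⁻¹) • (h • v₂) = h • v₂
    rw [smul_smul, inv_mul_cancel_right, mul_smul, (Subgroup.mem_inf.mp hy).2]
  set M₀ := S v with hM₀
  have hM₀T : ∀ u ∈ M₀, u ∈ T := fun u hu => (Subgroup.mem_inf.mp hu).1
  have hM₀v : ∀ u ∈ M₀, u • v = v := fun u hu => (Subgroup.mem_inf.mp hu).2
  have hmax : ∀ w : V, w ≠ 1 → (∀ u ∈ M₀, u • w = w) → S w = M₀ := by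
    intro w hw hwM
    refine (Subgroup.eq_of_le_of_card_ge (fun u hu => Subgroup.mem_inf.mpr ⟨hM₀T u hu, hwM u hu⟩)
      ((hmax₂ w hw).trans hcard)).symm
  -- elements fixing `v` centralise `Q`
  have hne := hT.prime_ne hq
  have hQ0 : ∀ u ∈ M₀, ∀ g ∈ (Q : Subgroup H), g * u = u * g := by
    intro u hu g hg
    have hn := hq.smul_eq_of_fixed hv hQv (hM₀v u hu)
    have h1 : u * g * u⁻¹ * g⁻¹ ∈ (Q : Subgroup H) :=
      mul_mem ((Subgroup.mem_normalizer_iff.mp hn g).mp hg) (inv_mem hg)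
    have h2 : u * g * u⁻¹ * g⁻¹ ∈ T := by
      rw [show u * g * u⁻¹ * g⁻¹ = u * (g * u⁻¹ * g⁻¹) by group]
      exact mul_mem (hM₀T u hu) (hT.normalT.conj_mem _ (inv_mem (hM₀T u hu)) g)
    have h3 : u * g * u⁻¹ * g⁻¹ = 1 := by
      have hd : Disjoint (Q : Subgroup H) T := by
        haveI := Fact.mk hT.prime
        exact IsPGroup.disjoint_of_ne q ℓ hne _ _ Q.isPGroup' hT.pgroup
      exact Subgroup.mem_bot.mp (hd.le_bot (Subgroup.mem_inf.mpr ⟨h1, h2⟩))
    rw [mul_inv_eq_one, mul_inv_eq_iff_eq_mul] at h3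
    exact h3.symm
  set M₁ := T ⊓ Subgroup.centralizer (M₀ : Set H) with hM₁
  set M := M₀ ⊔ (T ⊓ C) with hM
  have hZc : T ⊓ C ≤ Subgroup.centralizer (T : Set H) := fun z hz =>
    Subgroup.mem_centralizer_iff.mpr fun t ht => hT.comm t ht z (Subgroup.mem_inf.mp hz).2
  have hM₀ab : M₀ ≤ M₁ := fun u hu => Subgroup.mem_inf.mpr ⟨hM₀T u hu,
    Subgroup.mem_centralizer_iff.mpr fun w hw => by
      have hc : ⁅w, u⁆ = 1 := hC _ (hT.der w (hM₀T w hw) u (hM₀T u hu)) v hv (by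
        have : ⁅w, u⁆ ∈ MulAction.stabilizer H v := by
          rw [commutatorElement_def]
          exact mul_mem (mul_mem (mul_mem (hM₀v w hw) (hM₀v u hu)) (inv_mem (hM₀v w hw)))
            (inv_mem (hM₀v u hu))
        exact this)
      exact commutatorElement_eq_one_iff_mul_comm.mp hc⟩
  have hMM₁ : M ≤ M₁ := sup_le hM₀ab (fun z hz => Subgroup.mem_inf.mpr ⟨(Subgroup.mem_inf.mp hz).1,
    Subgroup.centralizer_le (fun u hu => hM₀T u hu) (hZc hz)⟩)
  have hcM : ∀ m ∈ M, ∀ y ∈ M₁, y * m = m * y := by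
    intro m hm y hy
    obtain ⟨hyT, hyc⟩ := Subgroup.mem_inf.mp hy
    have : M ≤ Subgroup.centralizer ({y} : Set H) := sup_le
      (fun u hu => Subgroup.mem_centralizer_singleton_iff.mpr
        (Subgroup.mem_centralizer_iff.mp hyc u hu))
      (fun z hz => Subgroup.mem_centralizer_singleton_iff.mpr
        ((Subgroup.mem_centralizer_iff.mp (hZc hz) y hyT).symm))
    exact (Subgroup.mem_centralizer_singleton_iff.mp (this hm)).symm
  -- elements of order `ℓ` modulo `M₀`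
  have key : ∀ u ∈ M₁, u ^ ℓ ∈ M₀ → u ∈ M := by
    intro u hu hul
    obtain ⟨huT, huc⟩ := Subgroup.mem_inf.mp hu
    set U := fixSub (V := V) M₀ with hU
    have hUv : v ∈ U := fun b hb => hM₀v b hb
    obtain ⟨z, hz, hz1, hzl⟩ : ∃ z ∈ T ⊓ C, z ≠ 1 ∧ z ^ ℓ = 1 := by
      obtain ⟨a, ha, b, hb, hab⟩ := hT.nonab
      exact ⟨⁅a, b⁆, hT.der_mem ha hb, fun e => hab (commutatorElement_eq_one_iff_mul_comm.mp e),
        hT.der_pow ha hb⟩
    have hcomm : u * z = z * u := hT.comm u huT z (Subgroup.mem_inf.mp hz).2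
    haveI : Nontrivial U := ⟨⟨v, hUv⟩, 1, fun e => hv (congrArg Subtype.val e)⟩
    set E := Subgroup.closure {u, z} with hE
    have hEab : ∀ a ∈ E, ∀ b ∈ E, a * b = b * a := by
      intro a ha b hb
      have hle : E ≤ Subgroup.centralizer ({u, z} : Set H) := by
        rw [hE, Subgroup.closure_le]
        rintro x (rfl | rfl) <;> refine Subgroup.mem_centralizer_iff.mpr ?_ <;>
          rintro y (rfl | rfl)
        · rfl
        · exact hcomm.symm
        · exact hcomm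
        · rfl
      have h2 : Subgroup.centralizer ({u, z} : Set H) ≤ Subgroup.centralizer (E : Set H) := by
        rw [hE, ← Subgroup.centralizer_closure]
      exact (Subgroup.mem_centralizer_iff.mp (h2 (hle hb)) a ha)
    have hEU : ∀ a ∈ E, ∀ w ∈ U, a • w ∈ U := by
      intro a ha w hw b hb
      have hle : E ≤ Subgroup.centralizer (M₀ : Set H) := by
        rw [hE, Subgroup.closure_le]
        rintro x (rfl | rfl)
        · exact huc
        · exact Subgroup.centralizer_le (fun u hu => hM₀T u hu) (hZc hz)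
      rw [smul_smul, Subgroup.mem_centralizer_iff.mp (hle ha) b hb, mul_smul, hw b hb]
    have hET : E ≤ T := by
      rw [hE, Subgroup.closure_le]
      rintro x (rfl | rfl)
      · exact huT
      · exact (Subgroup.mem_inf.mp hz).1
    let ψ : E →* MulAut U :=
      { toFun := fun a =>
          { toFun := fun w => ⟨(a : H) • (w : V), hEU a a.2 w w.2⟩
            invFun := fun w => ⟨(a : H)⁻¹ • (w : V), hEU _ (inv_mem a.2) w w.2⟩
            left_inv := fun w => Subtype.ext (inv_smul_smul _ _)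
            right_inv := fun w => Subtype.ext (smul_inv_smul _ _)
            map_mul' := fun x y => Subtype.ext (smul_mul' _ _ _) }
        map_one' := MulEquiv.ext fun w => Subtype.ext (one_smul H (w : V))
        map_mul' := fun a b => MulEquiv.ext fun w => Subtype.ext (mul_smul (a : H) b (w : V)) }
    have hker : ∀ a : E, ∀ w : U, w ≠ 1 → ψ a w = w → ψ a = 1 ∧ (a : H) ∈ M₀ := by
      intro a w hw1 hw
      have hw1' : (w : V) ≠ 1 := fun e => hw1 (Subtype.ext e)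
      have haM : (a : H) ∈ M₀ := by
        rw [← hmax w hw1' fun b hb => w.2 b hb]
        exact Subgroup.mem_inf.mpr ⟨hET a.2, congrArg Subtype.val hw⟩
      exact ⟨MulEquiv.ext fun x => Subtype.ext (x.2 a haM), haM⟩
    have hfpf : ∀ e : ψ.range, e ≠ 1 → ∀ k : U, ψ.range.subtype e k = k → k = 1 := by
      rintro ⟨_, a, rfl⟩ he k hk
      by_contra hk1
      exact he (Subtype.ext (hker a k hk1 hk).1)
    haveI : IsCyclic ψ.range := isCyclic_of_fpf (fun a b => by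
      obtain ⟨_, a, rfl⟩ := a
      obtain ⟨_, b, rfl⟩ := b
      refine Subtype.ext ?_
      show ψ a * ψ b = ψ b * ψ a
      rw [← map_mul, ← map_mul]
      congr 1
      exact Subtype.ext (hEab a a.2 b b.2)) ψ.range.subtype hfpf
    set uE : E := ⟨u, Subgroup.subset_closure (by simp)⟩
    set zE : E := ⟨z, Subgroup.subset_closure (by simp)⟩
    set x : ψ.range := ⟨ψ uE, uE, rfl⟩
    set y : ψ.range := ⟨ψ zE, zE, rfl⟩
    have hy1 : y ≠ 1 := by
      intro e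
      have h1 := congrArg (fun f : MulAut U => ((f ⟨v, hUv⟩ : U) : V)) (congrArg Subtype.val e)
      exact hz1 (hC z (Subgroup.mem_inf.mp hz).2 v hv h1)
    have hxl : x ^ ℓ = 1 := by
      refine Subtype.ext ?_
      show (ψ uE) ^ ℓ = 1
      rw [← map_pow]
      exact MulEquiv.ext fun w => Subtype.ext (w.2 _ (by simpa [uE] using hul))
    have hyl : y ^ ℓ = 1 := by
      refine Subtype.ext ?_
      show (ψ zE) ^ ℓ = 1
      rw [← map_pow, show zE ^ ℓ = 1 from Subtype.ext (by simpa [zE] using hzl), map_one]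
    have hxy : x ∈ Subgroup.zpowers y := by
      classical
      haveI := Fintype.ofFinite ψ.range
      have hord : orderOf y = ℓ := by
        rcases (Nat.dvd_prime hT.prime).mp (orderOf_dvd_of_pow_eq_one hyl) with h | h
        · exact absurd (orderOf_eq_one_iff.mp h) hy1
        · exact h
      have hle := IsCyclic.card_pow_eq_one_le (α := ψ.range) hT.prime.pos
      have hsub : (Finset.univ.filter fun a : ψ.range => a ∈ Subgroup.zpowers y) ⊆
          Finset.univ.filter fun a : ψ.range => a ^ ℓ = 1 := by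
        intro a ha
        obtain ⟨i, rfl⟩ := (Finset.mem_filter.mp ha).2
        refine Finset.mem_filter.mpr ⟨Finset.mem_univ _, ?_⟩
        rw [← zpow_natCast, ← zpow_mul, mul_comm, zpow_mul, zpow_natCast, hyl, one_zpow]
      have hc : (Finset.univ.filter fun a : ψ.range => a ∈ Subgroup.zpowers y).card = ℓ := by
        rw [← Fintype.card_subtype, ← Nat.card_eq_fintype_card]
        exact (Nat.card_zpowers y).trans hord
      have heq := Finset.eq_of_subset_of_card_le hsub (by rw [hc]; exact hle)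
      have : x ∈ Finset.univ.filter fun a : ψ.range => a ^ ℓ = 1 :=
        Finset.mem_filter.mpr ⟨Finset.mem_univ _, hxl⟩
      rw [← heq] at this
      exact (Finset.mem_filter.mp this).2
    obtain ⟨i, hi⟩ := hxy
    have hfix : ψ ((zE ^ i)⁻¹ * uE) = 1 := by
      rw [map_mul, map_inv, map_zpow, inv_mul_eq_one]
      exact congrArg Subtype.val hi
    obtain ⟨-, hmem⟩ := hker ((zE ^ i)⁻¹ * uE) ⟨v, hUv⟩
      (fun e => hv (congrArg Subtype.val e)) (by rw [hfix]; rfl)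
    have hm : (z ^ i)⁻¹ * u ∈ M₀ := by simpa [uE, zE] using hmem
    rw [show u = z ^ i * ((z ^ i)⁻¹ * u) by group]
    exact mul_mem (Subgroup.mem_sup_right (Subgroup.zpow_mem _ hz i)) (Subgroup.mem_sup_left hm)
  refine ⟨M, M₁, hMM₁, inf_le_left, le_sup_right, fun g hg => ?_, fun g hg => ?_, ?_, hcM, ?_, ?_⟩
  · refine Subgroup.mem_centralizer_iff.mpr fun m hm => ?_
    have : M ≤ Subgroup.centralizer ({g} : Set H) := sup_le
      (fun u hu => Subgroup.mem_centralizer_singleton_iff.mpr (hQ0 u hu g hg).symm)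
      (fun z hz => Subgroup.mem_centralizer_singleton_iff.mpr (hQC z hz g hg).symm)
    exact Subgroup.mem_centralizer_singleton_iff.mp (this hm)
  · refine Subgroup.mem_normalizer_iff.mpr fun y => ?_
    have hstep : ∀ g ∈ (Q : Subgroup H), ∀ y ∈ M₁, g * y * g⁻¹ ∈ M₁ := by
      intro g hg y hy
      obtain ⟨hyT, hyc⟩ := Subgroup.mem_inf.mp hy
      refine Subgroup.mem_inf.mpr ⟨hT.normalT.conj_mem y hyT g,
        Subgroup.mem_centralizer_iff.mpr fun u hu => ?_⟩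
      have cg : Commute u g := (hQ0 u hu g hg).symm
      exact ((cg.mul_right (Subgroup.mem_centralizer_iff.mp hyc u hu)).mul_right cg.inv_right).eq
    exact ⟨hstep g hg y, fun h => by simpa [mul_assoc] using hstep g⁻¹ (inv_mem hg) _ h⟩
  · intro t ht g hg
    refine Subgroup.mem_inf.mpr ⟨?_, Subgroup.mem_centralizer_iff.mpr fun u hu => ?_⟩
    · rw [show t * g * t⁻¹ * g⁻¹ = t * (g * t⁻¹ * g⁻¹) by group]
      exact mul_mem ht (hT.normalT.conj_mem _ (inv_mem ht) g)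
    have huT := hM₀T u hu
    set c := ⁅t⁻¹, u⁆ with hc
    have hcZ := hT.der_mem (inv_mem ht) huT
    have e1 : t⁻¹ * u * t = c * u := by rw [hc, commutatorElement_def]; group
    have e2 : g * t⁻¹ * g⁻¹ * u * (g * t⁻¹ * g⁻¹)⁻¹ = c * u := by
      calc g * t⁻¹ * g⁻¹ * u * (g * t⁻¹ * g⁻¹)⁻¹
          = g * t⁻¹ * (g⁻¹ * u * g) * t * g⁻¹ := by group
        _ = g * (t⁻¹ * u * t) * g⁻¹ := by
            rw [mul_assoc g⁻¹, ← hQ0 u hu g hg, inv_mul_cancel_left]; group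
        _ = c * u := by
            rw [e1, ← mul_assoc, hQC c hcZ g hg, mul_assoc c, hQ0 u hu g hg]; group
    have e3 : t * g * t⁻¹ * g⁻¹ * u * (t * g * t⁻¹ * g⁻¹)⁻¹ = u := by
      calc t * g * t⁻¹ * g⁻¹ * u * (t * g * t⁻¹ * g⁻¹)⁻¹
          = t * (g * t⁻¹ * g⁻¹ * u * (g * t⁻¹ * g⁻¹)⁻¹) * t⁻¹ := by group
        _ = t * (t⁻¹ * u * t) * t⁻¹ := by rw [e2, e1]
        _ = u := by group
    exact (mul_inv_eq_iff_eq_mul.mp e3).symm
  · intro hne' u hu
    obtain ⟨z, hz, hzl⟩ := hT.exists_root hne' (Subgroup.mem_inf.mp hu).1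
    have hzM : z ∈ M := Subgroup.mem_sup_right hz
    have h := key (u * z) (mul_mem hu (hMM₁ hzM)) (by rw [hzl]; exact one_mem _)
    simpa using mul_mem h (inv_mem hzM)
  · intro hl hcard2
    subst hl
    have hsq : ∀ u ∈ M₁, u ∉ M → ∀ u' ∈ M₁, u' ∉ M → u * u' = u' * u → u'⁻¹ * u ∈ M := by
      intro u hu huM u' hu' hu'M hc
      have hval : ∀ a ∈ M₁, a ∉ M → a ^ 2 ≠ 1 := fun a ha haM e =>
        haM (key a ha (by rw [e]; exact one_mem _))
      have huZ : u ^ 2 ∈ T ⊓ C := Subgroup.mem_inf.mpr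
        ⟨pow_mem (Subgroup.mem_inf.mp hu).1 2, hT.pow u (Subgroup.mem_inf.mp hu).1⟩
      have hu'Z : u' ^ 2 ∈ T ⊓ C := Subgroup.mem_inf.mpr
        ⟨pow_mem (Subgroup.mem_inf.mp hu').1 2, hT.pow u' (Subgroup.mem_inf.mp hu').1⟩
      obtain ⟨a, b, hab, huniv⟩ := Nat.card_eq_two_iff.mp hcard2
      have heq : u ^ 2 = u' ^ 2 := by
        have h1 : ∀ w : ↥(T ⊓ C), w = a ∨ w = b := fun w => by
          have : w ∈ ({a, b} : Set ↥(T ⊓ C)) := huniv.symm ▸ Set.mem_univ w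
          simpa using this
        have hw1 : (⟨u ^ 2, huZ⟩ : ↥(T ⊓ C)) ≠ 1 := fun e => hval u hu huM (congrArg Subtype.val e)
        have hw2 : (⟨u' ^ 2, hu'Z⟩ : ↥(T ⊓ C)) ≠ 1 :=
          fun e => hval u' hu' hu'M (congrArg Subtype.val e)
        rcases h1 1 with e0 | e0 <;> rcases h1 ⟨u ^ 2, huZ⟩ with e1 | e1 <;>
          rcases h1 ⟨u' ^ 2, hu'Z⟩ with e2 | e2 <;>
          first
          | exact congrArg Subtype.val (e1.trans e2.symm)
          | exact absurd (e1.trans e0.symm) hw1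
          | exact absurd (e2.trans e0.symm) hw2
      refine key _ (mul_mem (inv_mem hu') hu) ?_
      have c : Commute u'⁻¹ u := (Commute.inv_left (show Commute u' u from hc.symm))
      rw [c.mul_pow, heq, inv_pow, inv_mul_cancel]
      exact one_mem _
    by_cases hall : ∀ y ∈ M₁, y ∈ M
    · exact ⟨1, one_mem _, 1, one_mem _, fun y hy => Or.inl (hall y hy)⟩
    push Not at hall
    obtain ⟨a, ha, haM⟩ := hall
    by_cases hall2 : ∀ y ∈ M₁, y ∈ M ∨ a⁻¹ * y ∈ M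
    · exact ⟨a, ha, 1, one_mem _, fun y hy => (hall2 y hy).imp_right Or.inl⟩
    push Not at hall2
    obtain ⟨b, hb, hbM, habM⟩ := hall2
    refine ⟨a, ha, b, hb, fun y hy => ?_⟩
    by_contra hcon
    push Not at hcon
    obtain ⟨hyM, hya, hyb, hyab⟩ := hcon
    obtain ⟨haT, -⟩ := Subgroup.mem_inf.mp ha
    obtain ⟨hbT, -⟩ := Subgroup.mem_inf.mp hb
    obtain ⟨hyT, -⟩ := Subgroup.mem_inf.mp hy
    have hnc : ∀ u ∈ M₁, u ∉ M → ∀ u' ∈ M₁, u' ∉ M → u'⁻¹ * u ∉ M → ⁅u, u'⁆ ≠ 1 :=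
      fun u hu h1 u' hu' h2 h3 e =>
        h3 (hsq u hu h1 u' hu' h2 (commutatorElement_eq_one_iff_mul_comm.mp e))
    have hbyM : b * y ∉ M := by
      intro h
      refine hyb ?_
      have hb2 : b ^ 2 ∈ M := Subgroup.mem_sup_right
        (Subgroup.mem_inf.mpr ⟨pow_mem hbT 2, hT.pow b hbT⟩)
      rw [show b⁻¹ * y = (b ^ 2)⁻¹ * (b * y) by group]
      exact mul_mem (inv_mem hb2) h
    have c1 : ⁅b, a⁆ ≠ 1 := hnc b hb hbM a ha haM habM
    have c2 : ⁅y, a⁆ ≠ 1 := hnc y hy hyM a ha haM hya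
    have c3 : ⁅b * y, a⁆ = 1 := by
      rw [H23.commutator_mul_left, hT.comm b hbT _ (hT.der y hyT a haT), mul_inv_cancel_right]
      obtain ⟨s, t, hst, huniv⟩ := Nat.card_eq_two_iff.mp hcard2
      have h1 : ∀ w : ↥(T ⊓ C), w = s ∨ w = t := fun w => by
        have : w ∈ ({s, t} : Set ↥(T ⊓ C)) := huniv.symm ▸ Set.mem_univ w
        simpa using this
      set w1 : ↥(T ⊓ C) := ⟨⁅y, a⁆, hT.der_mem hyT haT⟩
      set w2 : ↥(T ⊓ C) := ⟨⁅b, a⁆, hT.der_mem hbT haT⟩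
      have hw1 : w1 ≠ 1 := fun e => c2 (congrArg Subtype.val e)
      have hw2 : w2 ≠ 1 := fun e => c1 (congrArg Subtype.val e)
      have e : ⁅y, a⁆ = ⁅b, a⁆ := by
        rcases h1 1 with e0 | e0 <;> rcases h1 w1 with e1 | e1 <;> rcases h1 w2 with e2 | e2 <;>
          first
          | exact congrArg Subtype.val (e1.trans e2.symm)
          | exact absurd (e1.trans e0.symm) hw1
          | exact absurd (e2.trans e0.symm) hw2
      rw [e, ← pow_two]
      exact hT.der_pow hbT haT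
    have hfin := hsq (b * y) (mul_mem hb hy) hbyM a ha haM
      (commutatorElement_eq_one_iff_mul_comm.mp c3)
    refine hyab ?_
    have hsqM : ∀ u ∈ T, u ^ 2 ∈ M := fun u hu =>
      Subgroup.mem_sup_right (Subgroup.mem_inf.mpr ⟨pow_mem hu 2, hT.pow u hu⟩)
    have hZM : ⁅b⁻¹, a⁻¹⁆ ∈ M := Subgroup.mem_sup_right (hT.der_mem (inv_mem hbT) (inv_mem haT))
    rw [show (a * b)⁻¹ * y = ⁅b⁻¹, a⁻¹⁆ * a⁻¹ * (b ^ 2)⁻¹ * a * (a⁻¹ * (b * y)) by
      rw [commutatorElement_def]; group]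
    refine mul_mem ?_ hfin
    rw [show ⁅b⁻¹, a⁻¹⁆ * a⁻¹ * (b ^ 2)⁻¹ * a = ⁅b⁻¹, a⁻¹⁆ * (b ^ 2)⁻¹ by
      have c : Commute a (b ^ 2)⁻¹ := (show Commute a (b ^ 2) from hT.comm a haT _ (hT.pow b hbT)).inv_right
      rw [mul_assoc, mul_assoc, ← c.eq, inv_mul_cancel_left]]
    exact mul_mem hZM (inv_mem (hsqM b hbT))

end Sec

end Cfsg.Agent.H17.Palfy
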