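import Cfsg.Agent.H17.Palfy.CaseNone
import Cfsg.Agent.H43.InvariantAbove
import Cfsg.Agent.H43.CoprimeExt
import Cfsg.Agent.H43.DetChar

/-!
# Characters above a non-principal character of the derived subgroup of a normal `p`-subgroup
-/

set_option autoImplicit false
set_option linter.all false

namespace Cfsg.Agent.H17.Palfy

variable {G : Type*} [Group G] [Finite G]

/-- The restriction to a central subgroup of a character over a linear one is a multiple of it. -/
theorem restrict_central (M P : Subgroup G) [M.Normal] (hMP : M ≤ P)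
    (hMc : ∀ m ∈ M, ∀ x ∈ P, x * m = m * x) (f : M →* ℂˣ) [Fintype P] [Fintype M]
    (θ : Cfsg.IrrCharacter P)
    (hθ : Cfsg.classInner (fun x : M => θ.1 ⟨x, hMP x.2⟩) (H38.RealOdd.linFun f) ≠ 0) (m : M) :
    θ.1 ⟨m, hMP m.2⟩ = θ.1 1 * f m := by
  classical
  haveI : (M.subgroupOf P).Normal := Subgroup.normal_subgroupOf
  haveI : Fintype ↥(M.subgroupOf P) := Fintype.ofFinite _
  set e : ↥(M.subgroupOf P) ≃* M := Subgroup.subgroupOfEquivOfLe hMP
  have hirr : Cfsg.IsIrrCharacter ↥(M.subgroupOf P) (fun n => H38.RealOdd.linFun f (e n)) :=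
    H26.isIrrCharacter_hom (f.comp e.toMonoidHom)
  have hne : Cfsg.classInner (fun n : ↥(M.subgroupOf P) => θ.1 n)
      (fun n => H38.RealOdd.linFun f (e n)) ≠ 0 := by
    intro h
    apply hθ
    rw [← H43.classInner_congr e (fun x : M => θ.1 ⟨x, hMP x.2⟩) (H38.RealOdd.linFun f), ← h]
    exact congrArg (Cfsg.classInner · _) (funext fun n => congrArg θ.1 (Subtype.ext rfl))
  obtain ⟨k, hk, hres, -, h1⟩ := H56.restrict_eq_smul_of_invariant (M.subgroupOf P) hirr
    (fun x => funext fun n => by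
      refine congrArg (fun y : ↥(M.subgroupOf P) => H38.RealOdd.linFun f (e y)) (Subtype.ext ?_)
      refine Subtype.ext ?_
      show (x : G) * n * (x : G)⁻¹ = n
      rw [hMc _ (Subgroup.mem_subgroupOf.mp n.2) x x.2, mul_inv_cancel_right]) θ.2 hne
  have h := congrFun hres ⟨⟨m, hMP m.2⟩, Subgroup.mem_subgroupOf.mpr m.2⟩
  have hone : H38.RealOdd.linFun f (e 1) = 1 := by rw [map_one, H38.RealOdd.linFun_one]
  simp only [hone, mul_one] at h1
  rw [h1]
  exact h

/-- No such character is linear. -/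
theorem dvd_degree_over {p : ℕ} [Fact p.Prime] (M P : Subgroup G) [M.Normal] (hMP : M ≤ P)
    (hP : IsPGroup p P) (hder : M ≤ ⁅P, P⁆) {f : M →* ℂˣ} (hf : f ≠ 1) (θ : Cfsg.IrrCharacter P)
    (hθ : ∀ m : M, θ.1 ⟨m, hMP m.2⟩ = θ.1 1 * f m) :
    p ∣ Cfsg.charDegree (θ : P → ℂ) := by
  obtain ⟨i, hi⟩ := IsPGroup.iff_card.mp hP
  obtain ⟨j, -, hj⟩ := (Nat.dvd_prime_pow Fact.out).mp (hi ▸ H44.charDegree_dvd_card θ)
  rcases Nat.eq_zero_or_pos j with rfl | hj0
  · exfalso
    have h1 : θ.1 1 = 1 := by rw [← H44.cast_charDegree, hj]; simp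
    have hker := (H44.irr_one_eq_one_iff θ).mp h1
    refine hf (MonoidHom.ext fun m => Units.ext ?_)
    have hm : (⟨m, hMP m.2⟩ : P) ∈ commutator P := by
      have := hder m.2
      rw [← Subgroup.map_subtype_commutator] at this
      obtain ⟨y, hy, e⟩ := this
      rwa [show (⟨m, hMP m.2⟩ : P) = y from Subtype.ext e.symm]
    have h2 := H44.mem_kerOf.mp (hker hm)
    rw [hθ, h1, one_mul] at h2
    exact h2
  · rw [hj]
    exact dvd_pow_self p hj0.ne'

/-- Consequences for the stabiliser of a non-principal character of the derived subgroup. -/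
theorem good_of_class_two [Group.IsSolvable G] {p t : ℕ} [Fact p.Prime] [Fact t.Prime]
    (M P K : Subgroup G) [hMn : M.Normal] [hPn : P.Normal] (hMP : M ≤ P)
    (hMc : ∀ m ∈ M, ∀ x ∈ P, x * m = m * x) (hsup : P ⊔ K = ⊤) (hdis : P ⊓ K = ⊥)
    (hP : IsPGroup p P) (hK : ¬ p ∣ Nat.card K) (hder : M ≤ ⁅P, P⁆) (hapt : Apart p t G)
    (f : M →* ℂˣ) (hf : f ≠ 1) :
    ¬ t ∣ (stabOf (dualAct M K) f).index ∧ Good t ↥(stabOf (dualAct M K) f) := by
  classical
  haveI : Fintype P := Fintype.ofFinite _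
  haveI : Fintype M := Fintype.ofFinite _
  have hPf : P ≤ linStabilizer M f := fun x hx => mem_linStabilizer.mpr fun m =>
    congrArg f (Subtype.ext (by
      show x * m * x⁻¹ = m
      rw [hMc m m.2 x hx, mul_inv_cancel_right]))
  set S : Subgroup G := (stabOf (dualAct M K) f).map K.subtype with hS
  have hcardS : ¬ p ∣ Nat.card S := fun h => hK (h.trans
    (Subgroup.card_dvd_of_le (Subgroup.map_subtype_le _)))
  haveI : (M.subgroupOf P).Normal := Subgroup.normal_subgroupOf
  obtain ⟨k₀, hser⟩ := H43.exists_series_of_isSolvable P M hMP inferInstance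
  obtain ⟨θ, hθinv, hθM⟩ := H43.exists_conjInv_above _ P S M rfl
    (by rw [Subgroup.normalizer_eq_top_iff.mpr hPn]; exact le_top)
    (by rw [Subgroup.normalizer_eq_top_iff.mpr hMn]; exact le_top)
    (by rw [Subgroup.normalizer_eq_top_iff.mpr hMn]; exact le_top) hMP (by
      obtain ⟨i, hi⟩ := IsPGroup.iff_card.mp hP
      refine Nat.Coprime.coprime_dvd_left (Subgroup.relIndex_dvd_card _ _)
        (Nat.Coprime.coprime_dvd_right (Subgroup.relIndex_dvd_card _ _) ?_)
      rw [hi]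
      exact (Nat.Coprime.pow_left i ((Fact.out : p.Prime).coprime_iff_not_dvd.mpr hcardS)).symm)
    ⟨k₀, hser⟩ (H38.RealOdd.linIrr f) (by
      rintro _ ⟨k, hk, rfl⟩ g g' e
      have h := mem_linStabilizer.mp (mem_stabOf_dualAct.mp hk) g
      rw [show g' = ⟨(k : G) * g * (k : G)⁻¹, hMn.conj_mem g g.2 k⟩ from Subtype.ext e]
      exact congrArg Units.val h)
  have hval : ∀ m : M, θ.1 ⟨m, hMP m.2⟩ = θ.1 1 * f m := restrict_central M P hMP hMc f θ (by
    show Cfsg.classInner (fun x : M => θ.1 ⟨x, hMP x.2⟩) (H38.RealOdd.linIrr f).1 ≠ 0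
    rw [H43.classInner_eq_mult (φ := fun x : M => θ.1 ⟨x, hMP x.2⟩)
      (H26.isCharacter_comp (H26.irr_isCharacter θ) (Subgroup.inclusion hMP))]
    exact Nat.cast_ne_zero.mpr hθM)
  haveI : Fintype ↥(linStabilizer M f) := Fintype.ofFinite _
  haveI : Fintype ↥(P.subgroupOf (linStabilizer M f)) := Fintype.ofFinite _
  haveI : (P.subgroupOf (linStabilizer M f)).Normal := Subgroup.normal_subgroupOf
  set e := Subgroup.subgroupOfEquivOfLe hPf with he
  obtain ⟨π, -, hπ⟩ := exists_proj M P K hsup hdis f hPf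
  set θ' := H43.irrCongr e θ with hθ'
  have hinv : ∀ x : ↥(linStabilizer M f),
      H43.irrConj (P.subgroupOf (linStabilizer M f)) x θ' = θ' := by
    intro x
    refine Subtype.ext (funext fun n => ?_)
    rw [H43.irrConj_apply, hθ', H43.irrCongr_apply, H43.irrCongr_apply]
    set k : G := ((π x : K) : G) with hk
    set y : P := ⟨_, hπ x⟩ with hy
    set z : P := ⟨k * (e n : P) * k⁻¹, hPn.conj_mem _ (e n).2 k⟩ with hz
    have e1 : e ((MulAut.conjNormal x : MulAut _) n) = y * z * y⁻¹ := Subtype.ext (by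
      simp only [hy, hz, he, hk, Subgroup.coe_mul, Subgroup.coe_inv,
        Subgroup.subgroupOfEquivOfLe_apply_coe, MulAut.conjNormal_apply]
      group)
    rw [e1, H26.irr_conj]
    exact hθinv k ⟨π x, (π x).2, rfl⟩ (e n) z rfl
  obtain ⟨i, hi⟩ := IsPGroup.iff_card.mp (hP.of_equiv e.symm)
  obtain ⟨E, hE, -⟩ := H43.exists_coprime_ext θ' hinv (by
    refine Nat.Coprime.coprime_dvd_right (mul_dvd_mul
      (H43.detOrder_dvd_card (H26.irr_isCharacter θ')) (H44.charDegree_dvd_card θ')) ?_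
    rw [hi, ← pow_add]
    refine (Nat.Coprime.pow_left _ ((Fact.out : p.Prime).coprime_iff_not_dvd.mpr fun h => ?_)).symm
    have hidx : (P.subgroupOf (linStabilizer M f)).index ∣ P.index :=
      Subgroup.relIndex_dvd_index_of_normal P (linStabilizer M f)
    have hc : P.index = Nat.card K := by
      have hc : Subgroup.IsComplement' P K :=
        Subgroup.isComplement'_of_disjoint_and_mul_eq_univ (disjoint_iff.mpr hdis) (by
          rw [← Subgroup.normal_mul P K, hsup]; rfl)
      exact hc.symm.index_eq_card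
    exact hK (hc ▸ h.trans hidx))
  have hE1 : E.1 1 = θ.1 1 := by
    have h := hE 1
    rw [hθ', H43.irrCongr_apply, map_one] at h
    simpa using h
  refine not_dvd_and_good M P K hMP hsup hdis f hPf hapt E
    (by rw [show (fun n : ↥(P.subgroupOf (linStabilizer M f)) => E.1 n) = θ'.1 from funext hE]; exact θ'.2) (fun m => ?_)
    (Dvd.dvd.mul_left ?_ _)
  · rw [hE1, ← hval m]
    exact (hE ⟨⟨m, hPf (hMP m.2)⟩, Subgroup.mem_subgroupOf.mpr (hMP m.2)⟩).trans
      (congrArg θ.1 (Subtype.ext rfl))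
  · have hdeg : Cfsg.charDegree (E : ↥(linStabilizer M f) → ℂ) = Cfsg.charDegree (θ : P → ℂ) := by
      show ⌊(E.1 1).re⌋₊ = ⌊(θ.1 1).re⌋₊
      rw [hE1]
    rw [hdeg]
    exact dvd_degree_over M P hMP hP hder hf θ hval

end Cfsg.Agent.H17.Palfy
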