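import Cfsg.Agent.H17.Palfy.CoreLocal
import Cfsg.Agent.H17.Palfy.SmallAction
import Cfsg.Agent.H17.Palfy.CharTools
import Cfsg.Agent.H24.PGroupBasic
import Cfsg.Agent.H19.Fitting
import Cfsg.Agent.H45.RelOperator

/-!
# A solvable irreducible group with two local primes has a degree divisible by both
-/

set_option autoImplicit false
set_option linter.all false

namespace Cfsg.Agent.H17.Palfy

open scoped commutatorElement

variable {H : Type*} [Group H] [Finite H] [Group.IsSolvable H]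
variable {V : Type*} [CommGroup V] [MulDistribMulAction H V] [Finite V] [Nontrivial V]
  [FaithfulSMul H V]

omit [Group.IsSolvable H] in
theorem dvd_of_not_le {q : ℕ} [Fact q.Prime] {S : Subgroup H}
    (h : ∀ Q : Sylow q H, ¬ (Q : Subgroup H) ≤ S) : q ∣ S.index := by
  by_contra hq
  obtain ⟨Q, hQ⟩ := H25.exists_sylow_le_of_not_dvd_index S hq
  exact h Q hQ

/-- The case of a Sylow subgroup centralising the maximal abelian normal subgroup. -/
theorem false_of_le {q r : ℕ} (hq : Loc q H V) (hr : Loc r H V) (hqr : q ≠ r)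
    (hno : ∀ χ : Cfsg.IrrCharacter H, q ∣ Cfsg.charDegree (χ : H → ℂ) →
      r ∣ Cfsg.charDegree (χ : H → ℂ) → False)
    (C : Subgroup H) [C.Normal] [IsCyclic C]
    (hmax : ∀ B : Subgroup H, B.Normal → IsMulCommutative B → C ≤ B → B = C)
    (hC : ∀ c ∈ C, ∀ v : V, v ≠ 1 → c • v = v → c = 1)
    (Q : Sylow q H) (hQL : (Q : Subgroup H) ≤ Subgroup.centralizer (C : Set H)) : False := by
  classical
  haveI := Fact.mk hq.prime
  haveI := Fact.mk hr.prime
  set L := Subgroup.centralizer (C : Set H) with hL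
  haveI : L.Normal := Subgroup.normal_centralizer
  obtain ⟨rfl, T, hT, hZ2, hfull, g, hg, t₀, ht₀, hgt₀⟩ := exists_exceptional hq C hmax hC Q hQL
  have hRL : ∀ R : Sylow r H, ¬ (R : Subgroup H) ≤ L := fun R hR =>
    hqr (exists_exceptional hr C hmax hC R hR).1.symm
  haveI := hT.normalT
  haveI : IsCyclic ↥(T ⊓ C) :=
    isCyclic_of_surjective (Subgroup.subgroupOfEquivOfLe (inf_le_right : T ⊓ C ≤ C)).toMonoidHom
      (MulEquiv.surjective _)
  have hQC : ∀ c ∈ T ⊓ C, ∀ g ∈ (Q : Subgroup H), g * c = c * g := fun c hc g hg =>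
    (Subgroup.mem_centralizer_iff.mp (hQL hg) c (Subgroup.mem_inf.mp hc).2).symm
  obtain ⟨hg3, hgidx, -⟩ := hT.action hq hC Q hQC g hg
  -- the group of order two
  set Z := T ⊓ C with hZdef
  haveI : Z.Normal := by rw [hZdef]; infer_instance
  have hZtwo : ∀ a ∈ Z, ∀ b ∈ Z, a ≠ 1 → b ≠ 1 → a = b := by
    intro a ha b hb ha1 hb1
    obtain ⟨x, y, hxy, huniv⟩ := Nat.card_eq_two_iff.mp hZ2
    have h1 : ∀ w : ↥Z, w = x ∨ w = y := fun w => by
      have : w ∈ ({x, y} : Set ↥Z) := huniv.symm ▸ Set.mem_univ w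
      simpa using this
    have hw1 : (⟨a, ha⟩ : ↥Z) ≠ 1 := fun e => ha1 (congrArg Subtype.val e)
    have hw2 : (⟨b, hb⟩ : ↥Z) ≠ 1 := fun e => hb1 (congrArg Subtype.val e)
    rcases h1 1 with e0 | e0 <;> rcases h1 ⟨a, ha⟩ with e1 | e1 <;> rcases h1 ⟨b, hb⟩ with e2 | e2 <;>
      first
      | exact congrArg Subtype.val (e1.trans e2.symm)
      | exact absurd (e1.trans e0.symm) hw1
      | exact absurd (e2.trans e0.symm) hw2
  have hZcen : ∀ z ∈ Z, ∀ h : H, h * z * h⁻¹ = z := by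
    intro z hz h
    by_cases hz1 : z = 1
    · subst hz1; simp
    · exact hZtwo _ ((inferInstance : Z.Normal).conj_mem z hz h) z hz
        (fun e => hz1 (conj_eq_one_iff.mp e)) hz1
  have hTcomm : ∀ a ∈ T, ∀ z ∈ Z, a * z = z * a := fun a ha z hz =>
    hT.comm a ha z (Subgroup.mem_inf.mp hz).2
  -- the quotient `U` as an abelian group with operators
  set Z' : Subgroup ↥T := Z.subgroupOf T with hZ'
  haveI : Z'.Normal := by rw [hZ']; exact Subgroup.normal_subgroupOf
  letI instU : CommGroup (↥T ⧸ Z') :=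
    { (inferInstance : Group (↥T ⧸ Z')) with
      mul_comm := fun x y => by
        induction x using QuotientGroup.induction_on with | _ a =>
        induction y using QuotientGroup.induction_on with | _ b =>
        rw [← QuotientGroup.mk_mul, ← QuotientGroup.mk_mul, QuotientGroup.eq]
        refine Subgroup.mem_subgroupOf.mpr ?_
        push_cast
        rw [show ((a : H) * b)⁻¹ * (b * a) = ⁅(b : H)⁻¹, (a : H)⁻¹⁆ by
          rw [commutatorElement_def]; group]
        exact hT.der_mem (inv_mem b.2) (inv_mem a.2) }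
  set φ : H →* MulAut (↥T ⧸ Z') := H45.quotMulAut (MulAut.conjNormal : H →* MulAut ↥T) Z'
    (fun h n hn => Subgroup.mem_subgroupOf.mpr (by
      rw [MulAut.conjNormal_apply]
      exact (inferInstance : Z.Normal).conj_mem _ (Subgroup.mem_subgroupOf.mp hn) h)) with hφ
  let G := φ.range
  letI : MulDistribMulAction G (↥T ⧸ Z') :=
    { smul := fun f u => (f : MulAut (↥T ⧸ Z')) u
      one_smul := fun u => rfl
      mul_smul := fun a b u => rfl
      smul_mul := fun f a b => map_mul (f : MulAut (↥T ⧸ Z')) a b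
      smul_one := fun f => map_one (f : MulAut (↥T ⧸ Z')) }
  haveI : FaithfulSMul G (↥T ⧸ Z') := ⟨fun h => Subtype.ext (MulEquiv.ext h)⟩
  have hsmul : ∀ (h : H) (t : ↥T), (⟨φ h, h, rfl⟩ : G) • (t : ↥T ⧸ Z') =
      ((MulAut.conjNormal h t : ↥T) : ↥T ⧸ Z') := fun h t => rfl
  have h2 : ∀ u : ↥T ⧸ Z', u * u = 1 := by
    intro u
    induction u using QuotientGroup.induction_on with | _ a =>
    rw [← QuotientGroup.mk_mul, QuotientGroup.eq_one_iff]
    refine Subgroup.mem_subgroupOf.mpr (Subgroup.mem_inf.mpr ⟨(a * a).2, ?_⟩)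
    push_cast
    rw [← pow_two]
    exact hT.pow a a.2
  -- fixed points of normal subgroups
  have hirrU : ∀ N : Subgroup G, N.Normal → ∀ u : ↥T ⧸ Z', u ≠ 1 → (∀ n ∈ N, n • u = u) →
      N = ⊥ := by
    intro N hN u hu hfix
    haveI := hN
    set W : Subgroup H := ((fixSub (V := ↥T ⧸ Z') N).comap (QuotientGroup.mk' Z')).map T.subtype with hW
    have hWn : W.Normal := by
      refine ⟨?_⟩
      rintro _ ⟨a, ha, rfl⟩ h
      refine ⟨MulAut.conjNormal h a, ?_, by simp⟩
      have := fixSub_invariant (B := N) (⟨φ h, h, rfl⟩ : G) (show (a : ↥T ⧸ Z') ∈ fixSub N from ha)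
      rw [hsmul] at this
      exact this
    rcases hT.chief W hWn (fun z hz => ⟨⟨z, (Subgroup.mem_inf.mp hz).1⟩, by
        show ((⟨z, _⟩ : ↥T) : ↥T ⧸ Z') ∈ fixSub N
        rw [(QuotientGroup.eq_one_iff _).mpr (Subgroup.mem_subgroupOf.mpr hz)]
        exact one_mem _, rfl⟩) (by rintro _ ⟨a, -, rfl⟩; exact a.2) with e | e
    · exfalso
      obtain ⟨a, rfl⟩ := QuotientGroup.mk_surjective u
      have : (a : H) ∈ W := ⟨a, hfix, rfl⟩
      rw [e] at this
      exact hu ((QuotientGroup.eq_one_iff a).mpr (Subgroup.mem_subgroupOf.mpr this))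
    · refine (Subgroup.eq_bot_iff_forall _).mpr fun n hn =>
        eq_of_smul_eq_smul (α := ↥T ⧸ Z') fun x => ?_
      rw [one_smul]
      obtain ⟨a, rfl⟩ := QuotientGroup.mk_surjective x
      obtain ⟨b, hb, hba⟩ := (e.symm ▸ a.2 : (a : H) ∈ W)
      rw [← (Subtype.ext hba : b = a)]
      exact hb n hn
  -- the element
  set x : G := ⟨φ g, g, rfl⟩ with hx
  have hx3 : x ^ 3 = 1 := by
    refine eq_of_smul_eq_smul (α := ↥T ⧸ Z') fun u => ?_
    induction u using QuotientGroup.induction_on with | _ a =>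
    rw [one_smul, show x ^ 3 = (⟨φ (g ^ 3), g ^ 3, rfl⟩ : G) from Subtype.ext (map_pow φ g 3).symm,
      hsmul]
    congr 1
    refine Subtype.ext ?_
    rw [MulAut.conjNormal_apply, hg3 a a.2, mul_inv_cancel_right]
  have hx1 : x ≠ 1 := by
    intro e
    apply hgt₀
    have h1 := hsmul g ⟨t₀, ht₀⟩
    rw [← hx, e, one_smul, QuotientGroup.eq, Subgroup.mem_subgroupOf] at h1
    push_cast [MulAut.conjNormal_apply] at h1
    have hc : t₀⁻¹ * g * t₀ * g⁻¹ ∈ Z := by
      simpa [mul_assoc] using h1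
    have hgc : Commute g (t₀⁻¹ * g * t₀ * g⁻¹) := hQC _ hc g hg
    have := eq_one_of_conj (t := t₀⁻¹) (g := g) (by rw [inv_inv]) hgc (by
      obtain ⟨n, hn⟩ := IsPGroup.iff_orderOf.mp Q.isPGroup' ⟨g, hg⟩
      obtain ⟨j, hj⟩ := IsPGroup.iff_orderOf.mp hT.pgroup ⟨_, (Subgroup.mem_inf.mp hc).1⟩
      rw [Subgroup.orderOf_mk] at hn hj
      rw [hn, hj]
      exact Nat.Coprime.pow _ _ (by norm_num))
    rw [mul_inv_eq_one, mul_assoc, inv_mul_eq_iff_eq_mul] at this
    exact this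
  have hfix : (fixOne (U := ↥T ⧸ Z') x).index ≤ 4 := by
    refine le_trans ?_ hgidx
    have hle : (Subgroup.centralizer {g}).subgroupOf T ≤
        (fixOne (U := ↥T ⧸ Z') x).comap (QuotientGroup.mk' Z') := by
      intro a ha
      show x • (a : ↥T ⧸ Z') = a
      rw [hx, hsmul]
      congr 1
      refine Subtype.ext ?_
      rw [MulAut.conjNormal_apply,
        ← Subgroup.mem_centralizer_singleton_iff.mp (Subgroup.mem_subgroupOf.mp ha),
        mul_inv_cancel_right]
    rw [Subgroup.inf_relIndex_left,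
      ← Subgroup.index_comap_of_surjective (fixOne (U := ↥T ⧸ Z') x) (QuotientGroup.mk'_surjective Z')]
    exact Nat.le_of_dvd (Nat.pos_of_ne_zero Subgroup.index_ne_zero_of_finite)
      (Subgroup.index_dvd_of_le hle)
  -- the commutator form
  set β : ↥T ⧸ Z' → ↥T ⧸ Z' → ↥Z := fun u w =>
    ⟨⁅(u.out : H), (w.out : H)⁆, hT.der_mem u.out.2 w.out.2⟩ with hβ
  have hcz : ∀ a ∈ T, ∀ z ∈ Z, ∀ b ∈ T, ⁅a * z, b⁆ = ⁅a, b⁆ := by
    intro a ha z hz b hb
    rw [H23.commutator_mul_left, commutatorElement_eq_one_iff_mul_comm.mpr (hTcomm b hb z hz).symm]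
    group
  have hcz' : ∀ a ∈ T, ∀ z ∈ Z, ∀ b ∈ T, ⁅b, a * z⁆ = ⁅b, a⁆ := by
    intro a ha z hz b hb
    rw [← commutatorElement_inv (a * z) b, hcz a ha z hz b hb, commutatorElement_inv]
  have hβmk : ∀ a b : ↥T, (β (a : ↥T ⧸ Z') (b : ↥T ⧸ Z') : H) = ⁅(a : H), (b : H)⁆ := by
    intro a b
    have e : ∀ a : ↥T, ∃ z ∈ Z, ((a : ↥T ⧸ Z').out : H) = a * z := fun a => by
      have h := QuotientGroup.eq.mp (QuotientGroup.out_eq' (a : ↥T ⧸ Z')).symm
      exact ⟨_, Subgroup.mem_subgroupOf.mp h, by push_cast; rw [mul_inv_cancel_left]⟩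
    obtain ⟨z, hz, ea⟩ := e a
    obtain ⟨z', hz', eb⟩ := e b
    show ⁅((a : ↥T ⧸ Z').out : H), ((b : ↥T ⧸ Z').out : H)⁆ = _
    rw [ea, eb, hcz a a.2 z hz _ (mul_mem b.2 (Subgroup.mem_inf.mp hz').1),
      hcz' b b.2 z' hz' a a.2]
  have hself : ∀ u, β u u = 1 := fun u => Subtype.ext (commutatorElement_self _)
  have hl : ∀ u v w, β (u * v) w = β u w * β v w := by
    intro u v w
    induction u using QuotientGroup.induction_on with | _ a =>
    induction v using QuotientGroup.induction_on with | _ b =>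
    induction w using QuotientGroup.induction_on with | _ c =>
    refine Subtype.ext ?_
    rw [← QuotientGroup.mk_mul, hβmk, Subgroup.coe_mul, Subgroup.coe_mul, hβmk, hβmk,
      H23.commutator_mul_left, hTcomm a a.2 _ (hT.der_mem b.2 c.2), mul_inv_cancel_right]
    exact (hTcomm _ (Subgroup.mem_inf.mp (hT.der_mem b.2 c.2)).1 _ (hT.der_mem a.2 c.2))
  have hr' : ∀ u v w, β u (v * w) = β u v * β u w := by
    intro u v w
    induction u using QuotientGroup.induction_on with | _ a =>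
    induction v using QuotientGroup.induction_on with | _ b =>
    induction w using QuotientGroup.induction_on with | _ c =>
    refine Subtype.ext ?_
    rw [← QuotientGroup.mk_mul, hβmk, Subgroup.coe_mul, Subgroup.coe_mul, hβmk, hβmk]
    rw [show ⁅(a : H), (b : H) * c⁆ = ⁅(a : H), (b : H)⁆ * ((b : H) * ⁅(a : H), (c : H)⁆ * (b : H)⁻¹) by
      simp only [commutatorElement_def]; group, hTcomm b b.2 _ (hT.der_mem a.2 c.2),
      mul_inv_cancel_right]
  have hinv : ∀ (f : G) (u w), β (f • u) (f • w) = β u w := by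
    rintro ⟨_, h, rfl⟩ u w
    induction u using QuotientGroup.induction_on with | _ a =>
    induction w using QuotientGroup.induction_on with | _ b =>
    refine Subtype.ext ?_
    rw [hsmul, hsmul, hβmk, hβmk, MulAut.conjNormal_apply, MulAut.conjNormal_apply,
      ← conjugate_commutatorElement]
    exact hZcen _ (hT.der_mem a.2 b.2) h
  have hnd : ∀ u, (∀ w, β u w = 1) → u = 1 := by
    intro u hu
    induction u using QuotientGroup.induction_on with | _ a =>
    refine (QuotientGroup.eq_one_iff a).mpr (Subgroup.mem_subgroupOf.mpr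
      (Subgroup.mem_inf.mpr ⟨a.2, hT.mem_of_central a.2 fun b hb => ?_⟩))
    have := congrArg Subtype.val (hu ((⟨b, hb⟩ : ↥T) : ↥T ⧸ Z'))
    rw [hβmk] at this
    exact commutatorElement_eq_one_iff_mul_comm.mp this
  -- the image of the Sylow subgroup and the Fitting subgroup
  haveI : Group.IsSolvable G := Group.isSolvable_of_surjective φ.rangeRestrict_surjective
  set Q' : Sylow 3 G := Q.mapSurjective φ.rangeRestrict_surjective with hQ'
  have hxQ : x ∈ (Q' : Subgroup G) := by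
    rw [hQ', Sylow.coe_mapSurjective]
    exact ⟨g, hg, rfl⟩
  have hcent : ∀ p : Nat.Primes, ∀ n ∈ Cfsg.pCore (p : ℕ) G, x * n = n * x := by
    rintro ⟨p, hp⟩ n hn
    haveI := Fact.mk hp
    have hP := H19.pCore_isPGroup (G := G) p
    by_cases h3 : p = 3
    · subst h3
      have hn' := H19.pCore_le_sylow Q' hn
      obtain ⟨_, hy, hy'⟩ := (show n ∈ (Q : Subgroup H).map φ.rangeRestrict by
        rwa [hQ', Sylow.coe_mapSurjective] at hn')
      haveI := hq.comm Q
      have e := congrArg φ.rangeRestrict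
        (congrArg Subtype.val ((hq.comm Q).is_comm.comm ⟨g, hg⟩ ⟨_, hy⟩))
      rw [Subgroup.coe_mul, Subgroup.coe_mul, map_mul, map_mul, hy'] at e
      exact e
    by_cases h2p : p = 2
    · subst h2p
      suffices h : Cfsg.pCore 2 G = ⊥ by
        rw [h, Subgroup.mem_bot] at hn
        rw [hn, mul_one, one_mul]
      have h2g : IsPGroup 2 (↥T ⧸ Z') := hT.pgroup.to_quotient Z'
      haveI : Nontrivial (↥T ⧸ Z') := by
        obtain ⟨a, ha, b, hb, hab⟩ := hT.nonab
        refine ⟨((⟨b, hb⟩ : ↥T) : ↥T ⧸ Z'), 1, fun e => hab ?_⟩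
        exact hTcomm a ha b (Subgroup.mem_subgroupOf.mp ((QuotientGroup.eq_one_iff _).mp e))
      obtain ⟨k, hk, hcard⟩ := h2g.nontrivial_iff_card.mp inferInstance
      obtain ⟨u, hu, hu1⟩ := hP.exists_fixed_point_of_prime_dvd_card_of_fixed_point (↥T ⧸ Z')
        (hcard ▸ dvd_pow_self 2 hk.ne') (a := 1) (fun n => smul_one (n : G))
      exact hirrU _ (H19.pCore_normal 2 G) u hu1.symm fun m hm => hu ⟨m, hm⟩
    have hp5 : 5 ≤ p := by
      have := hp.two_le
      rcases hp.eq_two_or_odd with h | h <;> omega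
    haveI := H19.pCore_normal p G
    exact commute_of_small h2 hZ2 β hself hl hr' hinv hnd hp5 _ hP
      (by rw [Subgroup.normalizer_eq_top_iff.mpr inferInstance]; trivial) hx3 hfix n hn
  have hxF : x ∈ Cfsg.fittingSubgroup G := H19.centralizer_fitting_le <| by
    have hle : Cfsg.fittingSubgroup G ≤ Subgroup.centralizer {x} := by
      rw [H19.fitting_eq_iSup_pCore]
      exact iSup_le fun p n hn => Subgroup.mem_centralizer_singleton_iff.mpr (hcent p n hn).symm
    exact Subgroup.mem_centralizer_iff.mpr fun n hn =>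
      Subgroup.mem_centralizer_singleton_iff.mp (hle hn)
  have hxN : x ∈ Cfsg.pCore 3 G := by
    haveI := H19.fitting_normal G
    haveI := H19.fitting_isNilpotent (G := G)
    set F := Cfsg.fittingSubgroup G
    obtain ⟨S, hS⟩ := (Q'.isPGroup'.to_le (inf_le_right : F ⊓ (Q' : Subgroup G) ≤ Q')
      |>.comap_of_injective F.subtype F.subtype_injective).exists_le_sylow
    haveI : (S : Subgroup F).Characteristic := by
      refine Sylow.characteristic_of_normal S ?_
      exact Sylow.normal_of_normalizerCondition normalizerCondition_of_isNilpotent S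
    refine H19.le_pCore (ConjAct.normal_of_characteristic_of_normal
      (H := F) (K := (S : Subgroup F))) (S.isPGroup'.map F.subtype) ⟨⟨x, hxF⟩, hS ?_, rfl⟩
    exact Subgroup.mem_inf.mpr ⟨hxF, hxQ⟩
  have hN : Cfsg.pCore 3 G ≠ ⊥ := fun e => hx1 (Subgroup.mem_bot.mp (e ▸ hxN))
  -- Sylow subgroups fix nothing outside `Z`
  have hfree : ∀ Q₁ : Sylow 3 H, ∀ a : ↥T, (∀ y ∈ (Q₁ : Subgroup H),
      (a : H)⁻¹ * (y * a * y⁻¹) ∈ Z) → (a : H) ∈ Z := by
    intro Q₁ a hay
    by_contra haZ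
    refine hN (hirrU _ (H19.pCore_normal 3 G) (a : ↥T ⧸ Z') (fun e =>
      haZ (Subgroup.mem_subgroupOf.mp ((QuotientGroup.eq_one_iff a).mp e))) fun n hn => ?_)
    obtain ⟨y, hy, rfl⟩ := (show n ∈ (Q₁ : Subgroup H).map φ.rangeRestrict by
      have := H19.pCore_le_sylow (Q₁.mapSurjective φ.rangeRestrict_surjective) hn
      rwa [Sylow.coe_mapSurjective] at this)
    show (⟨φ y, y, rfl⟩ : G) • (a : ↥T ⧸ Z') = a
    rw [hsmul]
    refine (QuotientGroup.eq.mpr (Subgroup.mem_subgroupOf.mpr ?_)).symm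
    push_cast [MulAut.conjNormal_apply]
    exact hay y hy
  -- the linear character
  obtain ⟨θ, hθ⟩ := exists_faithful_linear C
  obtain ⟨a₀, ha₀⟩ : ∃ u : ↥T ⧸ Z', u ≠ 1 := by
    refine ⟨((⟨t₀, ht₀⟩ : ↥T) : ↥T ⧸ Z'), fun e => hgt₀ ?_⟩
    exact (hQC t₀ (Subgroup.mem_subgroupOf.mp ((QuotientGroup.eq_one_iff _).mp e)) g hg)
  obtain ⟨α, hα⟩ := CommGroup.exists_apply_ne_one_of_hasEnoughRootsOfUnity (↥T ⧸ Z') ℂ ha₀
  have hαZ : ∀ a : ↥T, (a : H) ∈ Z → α (a : ↥T ⧸ Z') = 1 := fun a ha => by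
    rw [(QuotientGroup.eq_one_iff a).mpr (Subgroup.mem_subgroupOf.mpr ha), map_one]
  have hCsq : ∀ c : C, c ^ 2 = 1 → (c : H) ∈ T := fun c hc => hfull c c.2 1 (by
    rw [pow_one, ← Subgroup.coe_pow, hc]; rfl)
  obtain ⟨μ, hμ⟩ := exists_hom_sup_commuting T C (hT.comm) (α.comp (QuotientGroup.mk' Z')) (θ ^ 2) (by
    intro a c e
    have hz : (a : H) ∈ Z := Subgroup.mem_inf.mpr ⟨a.2, e ▸ c.2⟩
    show α (a : ↥T ⧸ Z') = θ c ^ 2
    rw [hαZ a hz, ← map_pow, show c ^ 2 = 1 from Subtype.ext (by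
      rw [Subgroup.coe_pow, ← e, pow_two]
      by_cases h1 : (a : H) = 1
      · rw [h1, mul_one]; rfl
      · by_contra hne
        have := hZtwo _ (mul_mem hz hz) _ hz hne h1
        exact h1 (mul_eq_left.mp this)), map_one])
  haveI : (T ⊔ C).Normal := inferInstance
  have hμT : ∀ (a : ↥T) (u : ↥(T ⊔ C)), (u : H) = a → μ u = α (a : ↥T ⧸ Z') := fun a u e => by
    rw [hμ u a 1 (by simpa using e)]
    simp
  have hμC : ∀ (c : C) (u : ↥(T ⊔ C)), (u : H) = c → μ u = θ c ^ 2 := fun c u e => by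
    rw [hμ u 1 c (by simpa using e)]
    simp
  set I := linStabilizer (T ⊔ C) μ with hI
  have hq' : 3 ∣ I.index := by
    refine dvd_of_not_le fun Q₁ hQ₁ => hα ?_
    obtain ⟨k, rfl⟩ := QuotientGroup.mk_surjective a₀
    set K₀ : Subgroup H := ((α.comp (QuotientGroup.mk' Z')).ker).map T.subtype with hK₀
    have hK₀Z : Z ≤ K₀ := fun z hz =>
      ⟨⟨z, (Subgroup.mem_inf.mp hz).1⟩, hαZ ⟨z, _⟩ hz, rfl⟩
    have hμfix : ∀ y ∈ (Q₁ : Subgroup H), ∀ a : ↥T,
        α ((MulAut.conjNormal y a : ↥T) : ↥T ⧸ Z') = α (a : ↥T ⧸ Z') := by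
      intro y hy a
      rw [← hμT a ⟨a, Subgroup.mem_sup_left a.2⟩ rfl]
      refine (hμT _ _ ?_).symm.trans (mem_linStabilizer.mp (hQ₁ hy) ⟨a, Subgroup.mem_sup_left a.2⟩)
      rw [MulAut.conjNormal_apply]
    have hKnorm : (Q₁ : Subgroup H) ≤ Subgroup.normalizer (K₀ : Set H) := by
      have hstep : ∀ y ∈ (Q₁ : Subgroup H), ∀ z ∈ K₀, y * z * y⁻¹ ∈ K₀ := by
        rintro y hy _ ⟨a, ha, rfl⟩
        exact ⟨MulAut.conjNormal y a, (hμfix y hy a).trans ha, by simp⟩
      intro y hy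
      refine Subgroup.mem_normalizer_iff.mpr fun z => ⟨hstep y hy z, fun h => ?_⟩
      simpa [mul_assoc] using hstep y⁻¹ (inv_mem hy) _ h
    have hK₀T : K₀ ≤ T := Subgroup.map_subtype_le _
    obtain ⟨n, hn, hkn⟩ := H20.exists_mul_mem_centralizer (k := (k : H)) hKnorm (by
      obtain ⟨i, hi⟩ := IsPGroup.iff_card.mp Q₁.isPGroup'
      obtain ⟨j, hj⟩ := IsPGroup.iff_card.mp (hT.pgroup.to_le hK₀T)
      rw [hi, hj]
      exact Nat.Coprime.pow _ _ (by norm_num)) (Or.inr inferInstance) (fun y hy => by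
      refine ⟨k⁻¹ * MulAut.conjNormal y k, ?_, by simp⟩
      show α (QuotientGroup.mk' Z' (k⁻¹ * MulAut.conjNormal y k)) = 1
      rw [map_mul, map_inv, map_mul, map_inv, inv_mul_eq_one]
      exact (hμfix y hy k).symm)
    obtain ⟨n', hn', rfl⟩ := hn
    have hkZ : ((k * n' : ↥T) : H) ∈ Z := by
      refine hfree Q₁ (k * n') fun y hy => ?_
      have := Subgroup.mem_centralizer_iff.mp hkn y hy
      rw [Subgroup.coe_subtype] at this
      rw [Subgroup.coe_mul, this, mul_inv_cancel_right, inv_mul_cancel]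
      exact one_mem _
    have h1 := hαZ _ hkZ
    rw [QuotientGroup.mk_mul, map_mul, show α (n' : ↥T ⧸ Z') = 1 from hn', mul_one] at h1
    exact h1
  have hr' : r ∣ I.index := by
    refine dvd_of_not_le fun R hR => hRL R fun y hy => Subgroup.mem_centralizer_iff.mpr fun c hc => ?_
    have key : ∀ c : C, ∃ z ∈ Z, y * c * y⁻¹ = (c : H) * z := by
      intro c
      set c' : C := ⟨y * c * y⁻¹, (inferInstance : C.Normal).conj_mem c c.2 y⟩ with hc'
      have h1 := mem_linStabilizer.mp (hR hy) ⟨c, Subgroup.mem_sup_right c.2⟩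
      rw [hμC c' _ rfl, hμC c ⟨c, Subgroup.mem_sup_right c.2⟩ rfl, ← map_pow, ← map_pow] at h1
      have h2' := hθ h1
      have hcc : Commute c' c := (IsCyclic.commutative (α := C)).is_comm.comm c' c
      have h3 : (c⁻¹ * c') ^ 2 = 1 := by
        rw [(hcc.symm.inv_left).mul_pow, h2', inv_pow, inv_mul_cancel]
      refine ⟨((c⁻¹ * c' : C) : H), Subgroup.mem_inf.mpr ⟨hCsq _ h3, (c⁻¹ * c').2⟩, ?_⟩
      push_cast
      rw [mul_inv_cancel_left]
    obtain ⟨k, m, hm, hkm⟩ := Nat.exists_eq_pow_mul_and_not_dvd (orderOf_pos c).ne' 2 (by norm_num)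
    obtain ⟨z, hz, e⟩ := key ⟨c, hc⟩
    have hcm : y * c ^ m * y⁻¹ = c ^ m := by
      refine hZcen _ (Subgroup.mem_inf.mpr ⟨hfull _ (pow_mem hc m) k ?_, pow_mem hc m⟩) y
      rw [← pow_mul, mul_comm, ← hkm, pow_orderOf_eq_one]
    have hcz2 : Commute c z := (IsCyclic.commutative (α := C)).is_comm.comm ⟨c, hc⟩
      ⟨z, (Subgroup.mem_inf.mp hz).2⟩ |> congrArg Subtype.val
    rw [← conj_pow, e, hcz2.mul_pow, mul_eq_left] at hcm
    have hz1 : z = 1 := by
      by_contra hne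
      have hzz : z * z = 1 := by
        by_contra h
        exact hne (mul_eq_left.mp (hZtwo _ (mul_mem hz hz) _ hz h hne))
      obtain ⟨j, hj⟩ : Odd m := Nat.odd_iff.mpr (by omega)
      rw [hj, pow_succ, pow_mul, pow_two, hzz, one_pow, one_mul] at hcm
      exact hne hcm
    rw [hz1, mul_one, mul_inv_eq_iff_eq_mul] at e
    exact e.symm
  obtain ⟨χ, hχ⟩ := exists_index_linStabilizer_dvd (T ⊔ C) μ
  exact hno χ (hq'.trans hχ) (hr'.trans hχ)

/-- Two local primes: some degree is divisible by both. -/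
theorem core_false {q r : ℕ} (hqr : q ≠ r) (hirr : Irr H V) (hq : Loc q H V) (hr : Loc r H V)
    (hno : ∀ χ : Cfsg.IrrCharacter H, q ∣ Cfsg.charDegree (χ : H → ℂ) →
      r ∣ Cfsg.charDegree (χ : H → ℂ) → False) : False := by
  haveI := Fact.mk hq.prime
  haveI := Fact.mk hr.prime
  obtain ⟨C, hCn, hCab, hmax⟩ := H24.exists_maximal_normal_abelian H
  haveI := hCn
  have hab : ∀ a ∈ C, ∀ b ∈ C, a * b = b * a := fun a ha b hb =>
    congrArg Subtype.val (hCab.is_comm.comm ⟨a, ha⟩ ⟨b, hb⟩)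
  have hC : ∀ c ∈ C, ∀ v : V, v ≠ 1 → c • v = v → c = 1 := by
    by_cases hq2 : q = 2
    · exact semiregular hr (fun e => hqr (hq2.trans e.symm)) hirr C hab
    · exact semiregular hq hq2 hirr C hab
  haveI : IsCyclic C := isCyclic_of_fpf (fun a b => Subtype.ext (hab a a.2 b b.2))
    ((MulDistribMulAction.toMulAut H V).comp C.subtype) fun e he v hv => by
      by_contra hv1
      exact he (Subtype.ext (hC e e.2 v hv1 hv))
  set L := Subgroup.centralizer (C : Set H) with hL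
  haveI : L.Normal := Subgroup.normal_centralizer
  by_cases h1 : ∃ Q : Sylow q H, (Q : Subgroup H) ≤ L
  · obtain ⟨Q, hQ⟩ := h1
    exact false_of_le hq hr hqr hno C hmax hC Q hQ
  by_cases h2 : ∃ R : Sylow r H, (R : Subgroup H) ≤ L
  · obtain ⟨R, hR⟩ := h2
    exact false_of_le hr hq hqr.symm (fun χ a b => hno χ b a) C hmax hC R hR
  push Not at h1 h2
  obtain ⟨θ, hθ⟩ := exists_faithful_linear C
  have hle : linStabilizer C θ ≤ L := fun h hh => Subgroup.mem_centralizer_iff.mpr fun c hc => by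
    have := congrArg Subtype.val (hθ (mem_linStabilizer.mp hh ⟨c, hc⟩))
    exact (mul_inv_eq_iff_eq_mul.mp this).symm
  obtain ⟨χ, hχ⟩ := exists_index_linStabilizer_dvd C θ
  exact hno χ ((dvd_of_not_le fun Q hQ => h1 Q (hQ.trans hle)).trans hχ)
    ((dvd_of_not_le fun R hR => h2 R (hR.trans hle)).trans hχ)

end Cfsg.Agent.H17.Palfy
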