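import Cfsg.Agent.H17.Palfy.ClassTwo
import Cfsg.Agent.H37.Kantor
import Cfsg.Agent.H19.Cores

/-!
# The action of a Sylow subgroup on a class two section

A Sylow `q`-subgroup centralising the semiregular group `C` centralises every section of class
two, unless `q = 3` and the section is exceptional. Hence, if it is not contained in `C`, an
exceptional section exists.
-/

set_option autoImplicit false
set_option linter.all false

namespace Cfsg.Agent.H17.Palfy

open scoped commutatorElement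

variable {H : Type*} [Group H] [Finite H]
variable {V : Type*} [CommGroup V] [MulDistribMulAction H V] [Finite V] [Nontrivial V]

/-- A commutator of coprime order commuting with the operand vanishes. -/
theorem eq_one_of_conj {t g c : H} (he : t * g * t⁻¹ * g⁻¹ = c) (hc : Commute g c)
    (hcop : (orderOf c).Coprime (orderOf g)) : c = 1 := by
  have e : t * g * t⁻¹ = c * g := mul_inv_eq_iff_eq_mul.mp he
  have h1 : orderOf (c * g) = orderOf g := by
    rw [← e]
    exact (MulAut.conj t).orderOf_eq g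
  rw [hc.symm.orderOf_mul_eq_mul_orderOf_of_coprime hcop] at h1
  exact orderOf_eq_one_iff.mp (Nat.eq_of_mul_eq_mul_right (orderOf_pos g) (by rw [h1, one_mul]))

namespace Sec

variable {C T : Subgroup H} {ℓ : ℕ} (hT : Sec C T ℓ) {q : ℕ} (hq : Loc q H V)
include hT hq

/-- The action of an element of a Sylow subgroup centralising `T ∩ C`. -/
theorem action [IsCyclic ↥(T ⊓ C)]
    (hC : ∀ c ∈ C, ∀ v : V, v ≠ 1 → c • v = v → c = 1)
    (Q : Sylow q H) (hQC : ∀ c ∈ T ⊓ C, ∀ g ∈ (Q : Subgroup H), g * c = c * g) :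
    ∀ g ∈ (Q : Subgroup H),
      (∀ t ∈ T, g ^ 3 * t = t * g ^ 3) ∧
      (T ⊓ Subgroup.centralizer {g}).relIndex T ≤ 4 ∧
      ((ℓ ≠ 2 ∨ Nat.card ↥(T ⊓ C) ≠ 2) ∨ q ≠ 3 → ∀ t ∈ T, g * t = t * g) := by
  classical
  obtain ⟨M, M₁, hMM₁, hM₁T, hZM, hQM, hQM₁, hcm, -, hgen, hexc⟩ := hT.core hq hC Q hQC
  haveI := Fact.mk hq.prime
  haveI := Fact.mk hT.prime
  have hne := hT.prime_ne hq
  have hord : ∀ x ∈ (Q : Subgroup H), ∃ n : ℕ, orderOf x = q ^ n := fun x hx => by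
    obtain ⟨n, hn⟩ := IsPGroup.iff_orderOf.mp Q.isPGroup' ⟨x, hx⟩
    exact ⟨n, by rwa [Subgroup.orderOf_mk] at hn⟩
  have hcop : ∀ c ∈ T, ∀ x ∈ (Q : Subgroup H), (orderOf c).Coprime (orderOf x) := by
    intro c hc x hx
    obtain ⟨n, hn⟩ := hord x hx
    obtain ⟨j, hj⟩ := IsPGroup.iff_orderOf.mp hT.pgroup ⟨c, hc⟩
    rw [Subgroup.orderOf_mk] at hj
    rw [hn, hj]
    exact Nat.Coprime.pow _ _ ((Nat.coprime_primes hT.prime hq.prime).mpr hne.symm)
  have hgM : ∀ g ∈ (Q : Subgroup H), ∀ m ∈ M, g * m = m * g := fun g hg m hm =>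
    (Subgroup.mem_centralizer_iff.mp (hQM hg) m hm).symm
  have hstrip : ∀ g ∈ (Q : Subgroup H), ∀ t ∈ T, t * g * t⁻¹ * g⁻¹ ∈ M → g * t = t * g := by
    intro g hg t ht hm
    have := eq_one_of_conj rfl (hgM g hg _ hm)
      (hcop _ (hM₁T (hMM₁ hm)) g hg)
    exact (mul_inv_eq_iff_eq_mul.mp (mul_inv_eq_one.mp this)).symm
  have hMnorm : ∀ t ∈ T, ∀ m ∈ M, t * m * t⁻¹ ∈ M := by
    intro t ht m hm
    rw [show t * m * t⁻¹ = ⁅t, m⁆ * m by rw [commutatorElement_def]; group]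
    exact mul_mem (hZM (hT.der_mem ht (hM₁T (hMM₁ hm)))) hm
  -- an element fixing `M₁` modulo `M` centralises `T`
  have htriv : ∀ g ∈ (Q : Subgroup H), (∀ u ∈ M₁, u⁻¹ * (g * u * g⁻¹) ∈ M) →
      ∀ t ∈ T, g * t = t * g := by
    intro g hg hu t ht
    have hgM₁ : ∀ u ∈ M₁, g * u = u * g := by
      intro u hu'
      refine hstrip g hg u (hM₁T hu') ?_
      have h1 := hu u⁻¹ (inv_mem hu')
      rw [inv_inv] at h1
      rw [show u * g * u⁻¹ * g⁻¹ = u * (g * u⁻¹ * g⁻¹) by group]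
      exact h1
    have hc := hcm t ht g hg
    have := eq_one_of_conj rfl (hgM₁ _ hc) (hcop _ (hM₁T hc) g hg)
    exact (mul_inv_eq_iff_eq_mul.mp (mul_inv_eq_one.mp this)).symm
  by_cases hexcep : ℓ ≠ 2 ∨ Nat.card ↥(T ⊓ C) ≠ 2
  · have hall : ∀ g ∈ (Q : Subgroup H), ∀ t ∈ T, g * t = t * g := fun g hg t ht =>
      hstrip g hg t ht (hgen hexcep (hcm t ht g hg))
    intro g hg
    refine ⟨hall _ (pow_mem hg 3), ?_, fun _ => hall g hg⟩
    rw [inf_eq_left.mpr fun t ht => Subgroup.mem_centralizer_singleton_iff.mpr (hall g hg t ht).symm,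
      Subgroup.relIndex_self]
    norm_num
  push Not at hexcep
  obtain ⟨a, ha, b, hb, hcov⟩ := hexc hexcep.1 hexcep.2
  have hq2 : q ≠ 2 := fun e => hne (e.trans hexcep.1.symm)
  -- every coset of `M` in `M₁` is fixed by a small power
  have hpow : ∀ g ∈ (Q : Subgroup H), ∀ u ∈ M₁, ∀ d : ℕ,
      u⁻¹ * (g ^ d * u * (g ^ d)⁻¹) ∈ M → ∀ k, u⁻¹ * (g ^ (d * k) * u * (g ^ (d * k))⁻¹) ∈ M := by
    intro g hg u hu d hd k
    induction k with
    | zero => simp
    | succ k ih =>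
      have hgd : g ^ (d * k) ∈ (Q : Subgroup H) := pow_mem hg _
      set x := g ^ (d * k) with hx
      set m := u⁻¹ * (g ^ d * u * (g ^ d)⁻¹) with hm
      have hxm : x * m * x⁻¹ = m := by rw [hgM x hgd m hd, mul_inv_cancel_right]
      rw [Nat.mul_succ, pow_add, ← hx]
      have e : u⁻¹ * (x * g ^ d * u * (x * g ^ d)⁻¹) = u⁻¹ * (x * u * x⁻¹) * (x * m * x⁻¹) := by
        rw [hm]; group
      rw [e, hxm]
      exact mul_mem ih hd
  have horb : ∀ g ∈ (Q : Subgroup H), ∀ u ∈ M₁,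
      ∃ d, 1 ≤ d ∧ d ≤ 3 ∧ u⁻¹ * (g ^ d * u * (g ^ d)⁻¹) ∈ M := by
    intro g hg u hu
    have hM₁c : ∀ k : ℕ, g ^ k * u * (g ^ k)⁻¹ ∈ M₁ := fun k =>
      (Subgroup.mem_normalizer_iff.mp (hQM₁ (pow_mem hg k)) u).mp hu
    by_cases huM : u ∈ M
    · refine ⟨1, le_rfl, by norm_num, ?_⟩
      rw [pow_one, hgM g hg u huM, mul_inv_cancel_right, inv_mul_cancel]
      exact one_mem _
    have hout : ∀ k : ℕ, g ^ k * u * (g ^ k)⁻¹ ∉ M := by
      intro k h
      apply huM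
      have e := hgM _ (pow_mem hg k) _ h
      have e' : g ^ k * u * (g ^ k)⁻¹ = u := by
        have h2 : g ^ k * (g ^ k * u * (g ^ k)⁻¹) * (g ^ k)⁻¹ = g ^ k * u * (g ^ k)⁻¹ := by
          rw [e, mul_inv_cancel_right]
        exact mul_left_cancel (mul_right_cancel h2)
      rwa [e'] at h
    have hsel : ∀ k : Fin 4, ∃ i : Fin 3, (![a, b, a * b] i)⁻¹ * (g ^ (k : ℕ) * u * (g ^ (k : ℕ))⁻¹) ∈ M := by
      intro k
      rcases hcov _ (hM₁c k) with e | e | e | e
      · exact absurd e (hout k)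
      · exact ⟨0, e⟩
      · exact ⟨1, e⟩
      · exact ⟨2, e⟩
    choose f hf using hsel
    obtain ⟨i, j, hij, hfij⟩ := Fintype.exists_ne_map_eq_of_card_lt f (by simp)
    have key : ∀ i j : Fin 4, i < j → f i = f j →
        ∃ d, 1 ≤ d ∧ d ≤ 3 ∧ u⁻¹ * (g ^ d * u * (g ^ d)⁻¹) ∈ M := by
      intro i j hlt he
      have h1 := hf i
      have h2 := hf j
      rw [he] at h1
      have hdiff := mul_mem (inv_mem h1) h2
      refine ⟨(j : ℕ) - i, by omega, by omega, ?_⟩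
      set d := (j : ℕ) - i
      have hj : (j : ℕ) = i + d := by omega
      rw [hj, pow_add] at hdiff
      set x := g ^ (i : ℕ)
      have e : ((![a, b, a * b] (f j))⁻¹ * (x * u * x⁻¹))⁻¹ *
          ((![a, b, a * b] (f j))⁻¹ * (x * g ^ d * u * (x * g ^ d)⁻¹)) =
          x * (u⁻¹ * (g ^ d * u * (g ^ d)⁻¹)) * x⁻¹ := by group
      rw [e] at hdiff
      have e' := hgM x⁻¹ (inv_mem (pow_mem hg _)) _ hdiff
      have hback : u⁻¹ * (g ^ d * u * (g ^ d)⁻¹) = x * (u⁻¹ * (g ^ d * u * (g ^ d)⁻¹)) * x⁻¹ := by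
        calc u⁻¹ * (g ^ d * u * (g ^ d)⁻¹)
            = x⁻¹ * (x * (u⁻¹ * (g ^ d * u * (g ^ d)⁻¹)) * x⁻¹) * x := by group
          _ = _ := by rw [e', inv_mul_cancel_right]
      rw [hback]
      exact hdiff
    rcases lt_or_gt_of_ne hij with h | h
    · exact key i j h hfij
    · exact key j i h hfij.symm
  intro g hg
  refine ⟨?_, ?_, fun hc => ?_⟩
  · refine htriv _ (pow_mem hg 3) fun u hu => ?_
    obtain ⟨d, hd1, hd3, hd⟩ := horb g hg u hu
    rcases (by omega : d = 1 ∨ d = 2 ∨ d = 3) with rfl | rfl | rfl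
    · simpa using hpow g hg u hu 1 hd 3
    · obtain ⟨n, hn⟩ := hord g hg
      obtain ⟨k, hk⟩ := exists_pow_eq_self_of_coprime (x := g) (n := 2) (by
        rw [hn]; exact Nat.Coprime.pow_right n ((Nat.coprime_primes Nat.prime_two hq.prime).mpr hq2.symm))
      have h1 := hpow g hg u hu 2 hd (k * 3)
      rwa [← mul_assoc 2 k 3, pow_mul, pow_mul, hk] at h1
    · exact hd
  · have hsel : ∀ x : T, ∃ i : Fin 4,
        (![1, a, b, a * b] i)⁻¹ * ((x : H) * g * (x : H)⁻¹ * g⁻¹) ∈ M := by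
      intro x
      rcases hcov _ (hcm x x.2 g hg) with e | e | e | e
      · exact ⟨0, by simpa using e⟩
      · exact ⟨1, e⟩
      · exact ⟨2, e⟩
      · exact ⟨3, e⟩
    choose f hf using hsel
    rw [Subgroup.inf_relIndex_left]
    show ((Subgroup.centralizer {g}).subgroupOf T).index ≤ 4
    rw [Subgroup.index_eq_card]
    have hinj := Nat.card_le_card_of_injective
      (fun c : ↥T ⧸ (Subgroup.centralizer {g}).subgroupOf T => f c.out) ?_
    · simpa using hinj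
    intro c c' he
    obtain ⟨t, ht⟩ : ∃ t : T, c.out = t := ⟨_, rfl⟩
    obtain ⟨t', ht'⟩ : ∃ t : T, c'.out = t := ⟨_, rfl⟩
    simp only [ht, ht'] at he
    rw [← c.out_eq', ← c'.out_eq', ht, ht']
    refine QuotientGroup.eq.mpr (Subgroup.mem_subgroupOf.mpr
      (Subgroup.mem_centralizer_singleton_iff.mpr ?_))
    push_cast
    refine (hstrip g hg _ (mul_mem (inv_mem t.2) t'.2) ?_).symm
    have h1 := hf t
    have h2 := hf t'
    rw [he] at h1
    have hd := mul_mem (inv_mem h1) h2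
    set s := (t : H) * g * (t : H)⁻¹ * g⁻¹ with hs
    set s' := (t' : H) * g * (t' : H)⁻¹ * g⁻¹ with hs'
    rw [mul_inv_rev, inv_inv, mul_assoc, mul_inv_cancel_left] at hd
    have hsM : s' * s⁻¹ ∈ M := by
      have := hMnorm s (hM₁T (hcm t t.2 g hg)) _ hd
      rwa [mul_inv_cancel_left] at this
    have := hMnorm (t : H)⁻¹ (inv_mem t.2) _ hsM
    rw [inv_inv] at this
    rw [show (t : H)⁻¹ * t' * g * ((t : H)⁻¹ * t')⁻¹ * g⁻¹ = (t : H)⁻¹ * (s' * s⁻¹) * t by
      rw [hs, hs']; group]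
    exact this
  · have hc3 : q ≠ 3 := hc.resolve_left fun h => h.elim (fun h => h hexcep.1) (fun h => h hexcep.2)
    refine htriv g hg fun u hu => ?_
    obtain ⟨d, hd1, hd3, hd⟩ := horb g hg u hu
    obtain ⟨n, hn⟩ := hord g hg
    have hq5 : 5 ≤ q := by
      have := hq.prime.two_le
      rcases hq.prime.eq_two_or_odd with h | h <;> omega
    obtain ⟨k, hk⟩ := exists_pow_eq_self_of_coprime (x := g) (n := d) (by
      rw [hn]
      exact Nat.Coprime.pow_right n (Nat.coprime_comm.mp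
        (hq.prime.coprime_iff_not_dvd.mpr fun h => absurd (Nat.le_of_dvd (by omega) h) (by omega))))
    have h1 := hpow g hg u hu d hd k
    rwa [pow_mul, hk] at h1

end Sec

/-- An exceptional section exists once a Sylow subgroup centralises `C`. -/
theorem exists_exceptional [Group.IsSolvable H] [FaithfulSMul H V] {q : ℕ} (hq : Loc q H V)
    (C : Subgroup H) [C.Normal] [IsCyclic C]
    (hmax : ∀ B : Subgroup H, B.Normal → IsMulCommutative B → C ≤ B → B = C)
    (hC : ∀ c ∈ C, ∀ v : V, v ≠ 1 → c • v = v → c = 1)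
    (Q : Sylow q H) (hQL : (Q : Subgroup H) ≤ Subgroup.centralizer (C : Set H)) :
    q = 3 ∧ ∃ T : Subgroup H, Sec C T 2 ∧ Nat.card ↥(T ⊓ C) = 2 ∧
      (∀ c ∈ C, ∀ k : ℕ, c ^ 2 ^ k = 1 → c ∈ T) ∧
      ∃ g ∈ (Q : Subgroup H), ∃ t ∈ T, g * t ≠ t * g := by
  classical
  haveI := Fact.mk hq.prime
  by_contra hcon
  -- the kernel of all sections
  let Good : Subgroup H → Prop := fun T => ∃ ℓ : ℕ, Sec C T ℓ ∧ ∀ c ∈ C, ∀ k : ℕ, c ^ ℓ ^ k = 1 → c ∈ T
  have hQT : ∀ T, Good T → (Q : Subgroup H) ≤ Subgroup.centralizer (T : Set H) := by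
    rintro T ⟨ℓ, hT, hfull⟩ g hg
    refine Subgroup.mem_centralizer_iff.mpr fun t ht => ?_
    by_contra hgt
    haveI : IsCyclic ↥(T ⊓ C) :=
      isCyclic_of_surjective (Subgroup.subgroupOfEquivOfLe (inf_le_right : T ⊓ C ≤ C)).toMonoidHom
        (MulEquiv.surjective _)
    have hQC : ∀ c ∈ T ⊓ C, ∀ g ∈ (Q : Subgroup H), g * c = c * g := fun c hc g hg =>
      (Subgroup.mem_centralizer_iff.mp (hQL hg) c (Subgroup.mem_inf.mp hc).2).symm
    obtain ⟨-, -, h3⟩ := hT.action hq hC Q hQC g hg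
    by_cases hgen : (ℓ ≠ 2 ∨ Nat.card ↥(T ⊓ C) ≠ 2) ∨ q ≠ 3
    · exact hgt (h3 hgen t ht).symm
    · push Not at hgen
      obtain ⟨⟨rfl, hc2⟩, hq3⟩ := hgen
      exact hcon ⟨hq3, T, hT, hc2, hfull, g, hg, t, ht, fun e => hgt e.symm⟩
  haveI hLn : (Subgroup.centralizer (C : Set H)).Normal := Subgroup.normal_centralizer
  set K : Subgroup H := Subgroup.centralizer (C : Set H) ⊓
    ⨅ T : {T // Good T}, Subgroup.centralizer ((T : Subgroup H) : Set H) with hK
  haveI : K.Normal := by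
    haveI : ∀ T : {T // Good T}, (Subgroup.centralizer ((T : Subgroup H) : Set H)).Normal :=
      fun T => by
        obtain ⟨ℓ, hT, -⟩ := T.2
        haveI := hT.normalT
        exact Subgroup.normal_centralizer
    haveI := Subgroup.normal_iInf_normal (a := fun T : {T // Good T} =>
      Subgroup.centralizer ((T : Subgroup H) : Set H)) inferInstance
    infer_instance
  have hQK : (Q : Subgroup H) ≤ K := le_inf hQL (le_iInf fun T => hQT T T.2)
  have hCK : C ≤ K := by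
    refine le_inf (Subgroup.le_centralizer C) (le_iInf fun T => fun c hc => ?_)
    obtain ⟨ℓ, hT, -⟩ := T.2
    exact Subgroup.mem_centralizer_iff.mpr fun t ht => hT.comm t ht c hc
  have hKC : K ≠ C := by
    intro e
    obtain ⟨v, hv⟩ := exists_ne (1 : V)
    obtain ⟨Q', hQ', -⟩ := hq.fix v hv
    obtain ⟨h, hh⟩ := MulAction.exists_smul_eq H Q Q'
    refine Q.ne_bot_of_dvd_card hq.dvd ((Subgroup.eq_bot_iff_forall _).mpr fun g hg => ?_)
    have hgC : g ∈ C := e ▸ hQK hg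
    have hmem : h * g * h⁻¹ ∈ (Q' : Subgroup H) := by
      rw [← hh, Sylow.coe_subgroup_smul]
      exact ⟨g, hg, rfl⟩
    exact conj_eq_one_iff.mp (hC _ ((inferInstance : C.Normal).conj_mem g hgC h) v hv (hQ' hmem))
  -- a chief factor inside the kernel
  obtain ⟨W, ⟨hWn, hCW, hWK⟩, hWmin⟩ := (Set.toFinite {W : Subgroup H | W.Normal ∧ C < W ∧ W ≤ K}).exists_minimal
    ⟨K, inferInstance, lt_of_le_of_ne hCK (Ne.symm hKC), le_rfl⟩
  haveI := hWn
  set π := QuotientGroup.mk' C with hπ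
  haveI : (W.map π).Normal := hWn.map π (QuotientGroup.mk'_surjective C)
  have hWne : W.map π ≠ ⊥ := by
    rw [Ne, Subgroup.map_eq_bot_iff, hπ, QuotientGroup.ker_mk']
    exact hCW.not_ge
  have hWmin' : ∀ S : Subgroup H, S.Normal → C ≤ S → S ≤ W → S = C ∨ S = W := by
    intro S hS hCS hSW
    by_cases hSC : S = C
    · exact Or.inl hSC
    · exact Or.inr (le_antisymm hSW
        (hWmin ⟨hS, lt_of_le_of_ne hCS (Ne.symm hSC), hSW.trans hWK⟩ hSW))
  obtain ⟨habel, ℓ, hℓ, hexp⟩ := H37.minimal_normal_elementary (W.map π) hWne (by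
    intro S hS hSW
    have h2 : (S.comap π) ≤ W := by
      intro x hx
      obtain ⟨y, hy, hxy⟩ := hSW hx
      have : y⁻¹ * x ∈ C := QuotientGroup.eq.mp hxy
      simpa using mul_mem hy (hCW.le this)
    rcases hWmin' (S.comap π) (hS.comap π) (by
        intro x hx
        rw [Subgroup.mem_comap, hπ, QuotientGroup.mk'_apply, (QuotientGroup.eq_one_iff x).mpr hx]
        exact one_mem _) h2 with e | e
    · left
      rw [← Subgroup.map_comap_eq_self_of_surjective (f := π) (QuotientGroup.mk'_surjective C) S, e,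
        Subgroup.map_eq_bot_iff, hπ, QuotientGroup.ker_mk']
    · right
      rw [← Subgroup.map_comap_eq_self_of_surjective (f := π) (QuotientGroup.mk'_surjective C) S, e])
  haveI := Fact.mk hℓ
  have hpowC : ∀ w ∈ W, w ^ ℓ ∈ C := fun w hw => by
    have := congrArg Subtype.val (hexp ⟨π w, w, hw, rfl⟩)
    rw [Subgroup.coe_pow, Subgroup.coe_one] at this
    exact (QuotientGroup.eq_one_iff _).mp ((map_pow π w ℓ).trans this)
  have hderC : ∀ a ∈ W, ∀ b ∈ W, ⁅a, b⁆ ∈ C := fun a ha b hb => by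
    refine (QuotientGroup.eq_one_iff _).mp ?_
    show π ⁅a, b⁆ = 1
    rw [map_commutatorElement, commutatorElement_eq_one_iff_mul_comm]
    exact congrArg Subtype.val (habel ⟨π a, a, ha, rfl⟩ ⟨π b, b, hb, rfl⟩)
  have hcent : ∀ w ∈ W, ∀ c ∈ C, w * c = c * w := fun w hw c hc =>
    (Subgroup.mem_centralizer_iff.mp (Subgroup.mem_inf.mp (hWK hw)).1 c hc).symm
  -- its elements of `ℓ`-power order
  let T : Subgroup H :=
    { carrier := {x | x ∈ W ∧ ∃ k : ℕ, x ^ ℓ ^ k = 1}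
      one_mem' := ⟨one_mem _, 0, one_pow _⟩
      mul_mem' := by
        rintro a b ⟨ha, i, hi⟩ ⟨hb, j, hj⟩
        refine ⟨mul_mem ha hb, i + j + 1, ?_⟩
        have hc : Commute ⁅b, a⁆ a ∧ Commute ⁅b, a⁆ b :=
          ⟨(hcent a ha _ (hderC b hb a ha)).symm, (hcent b hb _ (hderC b hb a ha)).symm⟩
        have hd : ⁅b, a⁆ ^ ℓ = 1 := by
          rw [← H23.commutator_pow_left hc.2, commutatorElement_eq_one_iff_mul_comm]
          exact (hcent a ha _ (hpowC b hb)).symm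
        have e1 : ((a * b) ^ ℓ) ^ ℓ = (a ^ ℓ) ^ ℓ * (b ^ ℓ) ^ ℓ := by
          rw [H23.mul_pow_class_two hc.1 hc.2 ℓ]
          have cab : Commute (a ^ ℓ) (b ^ ℓ) := hcent _ (pow_mem ha ℓ) _ (hpowC b hb)
          have cw : Commute (a ^ ℓ * b ^ ℓ) (⁅b, a⁆ ^ ℓ.choose 2) :=
            hcent _ (mul_mem (pow_mem ha ℓ) (pow_mem hb ℓ)) _ (pow_mem (hderC b hb a ha) _)
          rw [cw.mul_pow, cab.mul_pow, ← pow_mul ⁅b, a⁆, mul_comm (ℓ.choose 2), pow_mul ⁅b, a⁆, hd, one_pow,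
            mul_one]
        have cab2 : Commute ((a ^ ℓ) ^ ℓ) ((b ^ ℓ) ^ ℓ) :=
          hcent _ (pow_mem (pow_mem ha ℓ) ℓ) _ (pow_mem (hpowC b hb) ℓ)
        calc (a * b) ^ ℓ ^ (i + j + 1) = ((a * b) ^ ℓ) ^ ℓ ^ (i + j) := by
              rw [← pow_mul, pow_succ']
          _ = 1 := by
              rcases Nat.eq_zero_or_pos (i + j) with h0 | h0
              · obtain ⟨rfl, rfl⟩ : i = 0 ∧ j = 0 := by omega
                simp only [pow_zero, pow_one] at hi hj
                simp [hi, hj]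
              · obtain ⟨n, hn⟩ : ∃ n, i + j = n + 1 := ⟨i + j - 1, by omega⟩
                rw [hn, pow_succ', pow_mul, e1, cab2.mul_pow]
                have ha' : (((a ^ ℓ) ^ ℓ) ^ ℓ ^ n) = 1 := by
                  rw [← pow_mul, ← pow_mul, ← mul_assoc, show ℓ * ℓ * ℓ ^ n = ℓ ^ i * ℓ ^ (n + 2 - i) by
                    rw [← pow_add, show i + (n + 2 - i) = n + 2 by omega]; ring, pow_mul, hi,
                    one_pow]
                have hb' : (((b ^ ℓ) ^ ℓ) ^ ℓ ^ n) = 1 := by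
                  rw [← pow_mul, ← pow_mul, ← mul_assoc, show ℓ * ℓ * ℓ ^ n = ℓ ^ j * ℓ ^ (n + 2 - j) by
                    rw [← pow_add, show j + (n + 2 - j) = n + 2 by omega]; ring, pow_mul, hj,
                    one_pow]
                rw [ha', hb', one_mul]
      inv_mem' := by
        rintro a ⟨ha, i, hi⟩
        exact ⟨inv_mem ha, i, by rw [inv_pow, hi, inv_one]⟩ }
  have hTW : T ≤ W := fun x hx => hx.1
  haveI hTn : T.Normal := ⟨fun x hx h => ⟨hWn.conj_mem x hx.1 h, by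
    obtain ⟨k, hk⟩ := hx.2
    exact ⟨k, by rw [conj_pow, hk, mul_one, mul_inv_cancel]⟩⟩⟩
  have hfull : ∀ c ∈ C, ∀ k : ℕ, c ^ ℓ ^ k = 1 → c ∈ T := fun c hc k hk => ⟨hCW.le hc, k, hk⟩
  have hsplit : ∀ w ∈ W, ∃ t ∈ T, ∃ c ∈ C, w = t * c := by
    intro w hw
    obtain ⟨k, m, hm, hkm⟩ := Nat.exists_eq_pow_mul_and_not_dvd (orderOf_pos w).ne' ℓ hℓ.ne_one
    have hcop : Nat.Coprime ℓ m := hℓ.coprime_iff_not_dvd.mpr hm
    obtain ⟨u, v, huv⟩ : ∃ u v : ℤ, u * (m : ℤ) + v * (ℓ : ℤ) = 1 :=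
      Int.isCoprime_iff_gcd_eq_one.mpr (by rw [Int.gcd_natCast_natCast]; exact hcop.symm)
    refine ⟨(w ^ m) ^ u, ?_, (w ^ ℓ) ^ v, zpow_mem (hpowC w hw) v, ?_⟩
    · refine T.zpow_mem ⟨pow_mem hw m, k, ?_⟩ u
      rw [← pow_mul, mul_comm, ← hkm, pow_orderOf_eq_one]
    · rw [← zpow_natCast, ← zpow_natCast w ℓ, ← zpow_mul, ← zpow_mul, ← zpow_add,
        mul_comm (m : ℤ), mul_comm (ℓ : ℤ), huv, zpow_one]
  have hnab : ∃ a ∈ T, ∃ b ∈ T, a * b ≠ b * a := by
    by_contra hab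
    push Not at hab
    refine hCW.ne (hmax W hWn ⟨⟨?_⟩⟩ hCW.le).symm
    rintro ⟨x, hx⟩ ⟨y, hy⟩
    obtain ⟨t, ht, c, hc, rfl⟩ := hsplit x hx
    obtain ⟨t', ht', c', hc', rfl⟩ := hsplit y hy
    refine Subtype.ext ?_
    show t * c * (t' * c') = t' * c' * (t * c)
    have e1 : Commute t t' := hab t ht t' ht'
    have e2 : Commute t c' := hcent t ht.1 c' hc'
    have e3 : Commute c t' := (hcent t' ht'.1 c hc).symm
    have e4 : Commute c c' := hcent c (hCW.le hc) c' hc'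
    exact ((e1.mul_right e2).mul_left (e3.mul_right e4)).eq
  have hsec : Sec C T ℓ := by
    refine ⟨hℓ, inferInstance, hTn, ?_, hnab, fun a ha => hcent a ha.1,
      fun a ha b hb => hderC a ha.1 b hb.1, fun a ha => hpowC a ha.1, ?_⟩
    · rintro ⟨x, hx, k, hk⟩
      exact ⟨k, Subtype.ext hk⟩
    · intro S hS hCS hST
      haveI := hS
      rcases hWmin' (S ⊔ C) inferInstance le_sup_right (sup_le (hST.trans hTW) hCW.le) with e | e
      · left
        exact le_antisymm (le_inf hST ((le_sup_left).trans e.le)) hCS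
      · right
        refine le_antisymm hST fun t ht => ?_
        have : t ∈ ((S ⊔ C : Subgroup H) : Set H) := e.symm ▸ hTW ht
        rw [Subgroup.normal_mul S C] at this
        obtain ⟨s, hs, c, hc, rfl⟩ := this
        refine mul_mem hs (hCS (Subgroup.mem_inf.mpr ⟨?_, hc⟩))
        simpa using mul_mem (inv_mem (hST hs)) ht
  obtain ⟨a, ha, b, hb, hab⟩ := hnab
  have hKT : K ≤ Subgroup.centralizer (T : Set H) :=
    inf_le_right.trans (iInf_le (fun S : {S // Good S} => Subgroup.centralizer ((S : Subgroup H) : Set H))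
      ⟨T, ℓ, hsec, hfull⟩)
  exact hab (Subgroup.mem_centralizer_iff.mp (hKT (hWK (hTW hb))) a ha)

end Cfsg.Agent.H17.Palfy
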