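import Cfsg.Agent.H17.Palfy.Range

/-!
# Counting with the partition into fixed point subgroups
-/

set_option autoImplicit false
set_option linter.all false

namespace Cfsg.Agent.H17.Palfy

/-- Two such partition equations have the same exponent. -/
theorem exponent_eq {p n m a b N : ℕ} (hp : p.Prime) (ha : 0 < a) (han : a < n) (hb : 0 < b)
    (hbm : b < m) (h1 : N * (p ^ a - 1) = p ^ n - 1) (h2 : N * (p ^ b - 1) = p ^ m - 1) : n = m := by
  have one_le : ∀ k, 1 ≤ p ^ k := fun k => Nat.one_le_pow _ _ hp.pos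
  have z : ∀ k l : ℕ, N * (p ^ k - 1) = p ^ l - 1 →
      (N : ℤ) - 1 = (p : ℤ) ^ k * N - (p : ℤ) ^ l := by
    intro k l h
    have h' : ((N * (p ^ k - 1) : ℕ) : ℤ) = ((p ^ l - 1 : ℕ) : ℤ) := by rw [h]
    push_cast [Nat.cast_sub (one_le k), Nat.cast_sub (one_le l)] at h'
    linear_combination (-1 : ℤ) * h'
  have key : ∀ k l j o : ℕ, 0 < k → k < l → j < o → k < j →
      (N : ℤ) - 1 = (p : ℤ) ^ k * N - (p : ℤ) ^ l → (N : ℤ) - 1 = (p : ℤ) ^ j * N - (p : ℤ) ^ o →
      False := by
    intro k l j o hk hkl hjo hkj e e'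
    have hd : (p : ℤ) ^ (k + 1) ∣ (N : ℤ) - 1 := e' ▸ dvd_sub
      (Dvd.dvd.mul_right (pow_dvd_pow _ hkj) _) (pow_dvd_pow _ (by omega))
    have hd2 : (p : ℤ) ^ (k + 1) ∣ (p : ℤ) ^ k * N := by
      have := dvd_add hd (pow_dvd_pow (p : ℤ) (show k + 1 ≤ l by omega))
      rwa [e, sub_add_cancel] at this
    rw [pow_succ] at hd2
    have hpN : (p : ℤ) ∣ N :=
      (mul_dvd_mul_iff_left (pow_ne_zero k (by exact_mod_cast hp.ne_zero))).mp hd2
    have hp1 : (p : ℤ) ∣ (N : ℤ) - 1 := (dvd_pow_self _ (by omega)).trans hd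
    have : (p : ℤ) ∣ 1 := by simpa using dvd_sub hpN hp1
    exact hp.ne_one (Nat.dvd_one.mp (by exact_mod_cast this))
  have hab : a = b := by
    rcases lt_trichotomy a b with h | h | h
    · exact (key a n b m ha han hbm h (z a n h1) (z b m h2)).elim
    · exact h
    · exact (key b m a n hb hbm han h (z b m h2) (z a n h1)).elim
  subst hab
  have e : p ^ n = p ^ m := by
    have := one_le n
    have := one_le m
    omega
  exact Nat.pow_right_injective hp.two_le e

theorem card_ne_one (A : Type*) [Group A] [Finite A] :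
    Nat.card {a : A // a ≠ 1} = Nat.card A - 1 := by
  classical
  haveI := Fintype.ofFinite A
  rw [Nat.card_eq_fintype_card, Fintype.card_subtype_compl, Fintype.card_subtype_eq,
    Nat.card_eq_fintype_card]

variable {K X : Type*} [Group K] [Finite K] [CommGroup X] [Finite X] (φ : K →* MulAut X)

/-- The points fixed by a subgroup. -/
def fixedBy (B : Subgroup K) : Subgroup X where
  carrier := {v | ∀ b ∈ B, φ b v = v}
  one_mem' := fun b _ => map_one _
  mul_mem' := fun {x y} hx hy b hb => by rw [map_mul, hx b hb, hy b hb]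
  inv_mem' := fun {x} hx b hb => by rw [map_inv, hx b hb]

/-- The partition of the non-identity points. -/
theorem StabGood.count {p r : ℕ} [Fact p.Prime] [Fact r.Prime] [Nontrivial X] (hX : IsPGroup p X)
    (h : StabGood φ r) (R : Sylow r K) (hR : ¬ (R : Subgroup K).Normal) :
    ∃ a n : ℕ, 0 < a ∧ a < n ∧ Nat.card X = p ^ n ∧
      Nat.card (Sylow r K) * (p ^ a - 1) = p ^ n - 1 := by
  classical
  haveI := Fintype.ofFinite (Sylow r K)
  have hex : ∀ v : {v : X // v ≠ 1}, ∃ Q : Sylow r K, (Q : Subgroup K) ≤ stabOf φ v.1 ∧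
      ∀ Q' : Sylow r K, (Q' : Subgroup K) ≤ stabOf φ v.1 → Q' = Q := fun v => h.exists_sylow φ v.2
  choose s hs hu using hex
  have hiff : ∀ (v : {v : X // v ≠ 1}) (Q : Sylow r K),
      s v = Q ↔ v.1 ∈ fixedBy φ (Q : Subgroup K) := fun v Q =>
    ⟨fun e b hb => mem_stabOf.mp (hs v (e ▸ hb)), fun hm => (hu v Q fun b hb => hm b hb).symm⟩
  have hconst : ∀ Q : Sylow r K, Nat.card {v : {v : X // v ≠ 1} // s v = Q} =
      Nat.card (fixedBy φ (R : Subgroup K)) - 1 := by
    intro Q
    obtain ⟨g, rfl⟩ := MulAction.exists_smul_eq K R Q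
    rw [← card_ne_one]
    have hm : ∀ x : X, x ∈ fixedBy φ ((g • R : Sylow r K) : Subgroup K) ↔
        φ g⁻¹ x ∈ fixedBy φ (R : Subgroup K) := by
      intro x
      constructor
      · intro hx b hb
        have h1 := hx (g * b * g⁻¹) (by rw [Sylow.coe_subgroup_smul]; exact ⟨b, hb, rfl⟩)
        calc φ b (φ g⁻¹ x) = φ (g⁻¹ * (g * b * g⁻¹)) x := by
              rw [← MulAut.mul_apply, ← map_mul]; congr 2; group
          _ = φ g⁻¹ x := by rw [map_mul, MulAut.mul_apply, h1]
      · intro hx b hb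
        rw [Sylow.coe_subgroup_smul] at hb
        obtain ⟨c, hc, rfl⟩ := hb
        show φ (g * c * g⁻¹) x = x
        rw [map_mul, map_mul, MulAut.mul_apply, MulAut.mul_apply, hx c hc, ← MulAut.mul_apply,
          ← map_mul, mul_inv_cancel, map_one]
        rfl
    refine Nat.card_congr
      { toFun := fun v => ⟨⟨φ g⁻¹ v.1.1, (hm _).mp ((hiff _ _).mp v.2)⟩,
          fun e => v.1.2 ((map_eq_one_iff (φ g⁻¹) (φ g⁻¹).injective).mp (congrArg Subtype.val e))⟩
        invFun := fun w => ⟨⟨φ g w.1.1, fun e => w.2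
          (Subtype.ext ((map_eq_one_iff (φ g) (φ g).injective).mp e))⟩,
          (hiff _ _).mpr ((hm _).mpr (by
            rw [← MulAut.mul_apply, ← map_mul, inv_mul_cancel, map_one]; exact w.1.2))⟩
        left_inv := fun v => Subtype.ext (Subtype.ext (by
          show φ g (φ g⁻¹ v.1.1) = v.1.1
          rw [← MulAut.mul_apply, ← map_mul, mul_inv_cancel, map_one]; rfl))
        right_inv := fun w => Subtype.ext (Subtype.ext (by
          show φ g⁻¹ (φ g w.1.1) = w.1.1
          rw [← MulAut.mul_apply, ← map_mul, inv_mul_cancel, map_one]; rfl)) }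
  have hsum : Nat.card (Sylow r K) * (Nat.card (fixedBy φ (R : Subgroup K)) - 1) =
      Nat.card X - 1 := by
    rw [← card_ne_one X, ← Nat.card_congr (Equiv.sigmaFiberEquiv s), Nat.card_sigma,
      Finset.sum_congr rfl (fun Q _ => hconst Q), Finset.sum_const, smul_eq_mul, Finset.card_univ,
      Nat.card_eq_fintype_card]
  obtain ⟨n, hn⟩ := IsPGroup.iff_card.mp hX
  obtain ⟨a, ha⟩ := IsPGroup.iff_card.mp (hX.to_subgroup (fixedBy φ (R : Subgroup K)))
  refine ⟨a, n, ?_, ?_, hn, ?_⟩
  · refine Nat.pos_of_ne_zero fun ha0 => ?_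
    rw [ha, ha0, pow_zero, Nat.sub_self, mul_zero] at hsum
    have : 1 < Nat.card X := Finite.one_lt_card
    omega
  · refine lt_of_le_of_ne ((Nat.pow_le_pow_iff_right (Fact.out : p.Prime).one_lt).mp ?_) fun han => ?_
    · rw [← ha, ← hn]
      exact Nat.le_of_dvd Nat.card_pos (Subgroup.card_subgroup_dvd_card _)
    · apply hR
      have htop : fixedBy φ (R : Subgroup K) = ⊤ :=
        Subgroup.eq_top_of_card_eq _ (by rw [ha, hn, han])
      rw [ha, ← hn, ← han] at *
      obtain ⟨v, hv⟩ := exists_ne (1 : X)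
      have hall : ∀ Q : Sylow r K, Q = s ⟨v, hv⟩ := by
        intro Q
        obtain ⟨g, rfl⟩ := MulAction.exists_smul_eq K R Q
        refine hu ⟨v, hv⟩ _ fun b hb => mem_stabOf.mpr ?_
        rw [Sylow.coe_subgroup_smul] at hb
        obtain ⟨c, hc, rfl⟩ := hb
        show φ (g * c * g⁻¹) v = v
        have hc' : φ c (φ g⁻¹ v) = φ g⁻¹ v := (htop.symm ▸ Subgroup.mem_top _ :
          φ g⁻¹ v ∈ fixedBy φ (R : Subgroup K)) c hc
        rw [map_mul, map_mul, MulAut.mul_apply, MulAut.mul_apply, hc', ← MulAut.mul_apply, ← map_mul,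
          mul_inv_cancel, map_one]
        rfl
      refine Subgroup.normalizer_eq_top_iff.mp (top_unique fun g _ => ?_)
      exact Sylow.smul_eq_iff_mem_normalizer.mp ((hall _).trans (hall R).symm)
  · rwa [ha, hn] at hsum

end Cfsg.Agent.H17.Palfy
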