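import Cfsg.Agent.H17.Palfy.Range
import Cfsg.Agent.H20.FixedPoints

/-!
# Linear characters: separation and coprime action
-/

set_option autoImplicit false
set_option linter.all false

namespace Cfsg.Agent.H17.Palfy

variable {G : Type*} [Group G] [Finite G]

instance instFiniteHomUnits {A : Type*} [Group A] [Finite A] : Finite (A →* ℂˣ) := by
  haveI : Finite (Abelianization A →* ℂˣ) := Nat.finite_of_card_ne_zero
    (by rw [CommGroup.card_monoidHom_of_hasEnoughRootsOfUnity]; exact Nat.card_pos.ne')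
  exact Finite.of_equiv _ (Abelianization.lift (G := A) (A := ℂˣ)).symm

/-- A point outside a subgroup containing all commutators is separated by a linear character. -/
theorem exists_linear_separating {A : Type*} [Group A] [Finite A] (C : Subgroup A) {x : A}
    (hx : ∀ c ∈ C, ∀ d ∈ commutator A, x ≠ c * d) :
    ∃ ν : A →* ℂˣ, (∀ c ∈ C, ν c = 1) ∧ ν x ≠ 1 := by
  by_contra hcon
  push Not at hcon
  have h1 : Abelianization.of x ∈ C.map Abelianization.of := by
    rw [← CommGroup.forall_monoidHom_apply_eq_one_iff (M := ℂ)]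
    intro μ hμ
    exact hcon (μ.comp Abelianization.of) fun c hc => hμ _ ⟨c, hc, rfl⟩
  obtain ⟨c, hc, e⟩ := h1
  refine hx c hc (c⁻¹ * x) ?_ (mul_inv_cancel_left c x).symm
  rw [← Abelianization.ker_of, MonoidHom.mem_ker, map_mul, map_inv, e, inv_mul_cancel]

/-- A linear character fixed by a coprime group and trivial on its fixed points is trivial. -/
theorem eq_one_of_fixed (P A : Subgroup G) [P.Normal] [Group.IsSolvable G]
    (hcop : (Nat.card A).Coprime (Nat.card P)) (ν : P →* ℂˣ)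
    (hfix : ∀ a ∈ A, ∀ x : P, ν ((MulAut.conjNormal a : MulAut P) x) = ν x)
    (hC : ∀ x : P, (x : G) ∈ Subgroup.centralizer (A : Set G) → ν x = 1) : ν = 1 := by
  set K₀ : Subgroup G := ν.ker.map P.subtype with hK₀
  have hnorm : A ≤ Subgroup.normalizer (K₀ : Set G) := by
    have hstep : ∀ a ∈ A, ∀ z ∈ K₀, a * z * a⁻¹ ∈ K₀ := by
      rintro a ha _ ⟨x, hx, rfl⟩
      exact ⟨(MulAut.conjNormal a : MulAut P) x, (hfix a ha x).trans hx, by simp⟩
    intro a ha
    refine Subgroup.mem_normalizer_iff.mpr fun z => ⟨hstep a ha z, fun h => ?_⟩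
    simpa [mul_assoc] using hstep a⁻¹ (inv_mem ha) _ h
  refine MonoidHom.ext fun x => ?_
  obtain ⟨n, ⟨n', hn', rfl⟩, hkn⟩ := H20.exists_mul_mem_centralizer (k := (x : G)) hnorm
    (hcop.coprime_dvd_right (Subgroup.card_dvd_of_le (Subgroup.map_subtype_le _)))
    (Or.inr inferInstance) fun a ha => ⟨x⁻¹ * (MulAut.conjNormal a : MulAut P) x, by
      show ν _ = 1
      rw [map_mul, map_inv, inv_mul_eq_one]
      exact (hfix a ha x).symm, by simp⟩
  have h := hC (x * n') (by simpa using hkn)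
  rwa [map_mul, show ν n' = 1 from hn', mul_one] at h

theorem fixed_of_mem_stab {P K : Subgroup G} [P.Normal] {ν : P →* ℂˣ} {k : K}
    (hk : k ∈ stabOf (dualAct P K) ν) (x : P) :
    ν ((MulAut.conjNormal (k : G) : MulAut P) x) = ν x := by
  refine Eq.trans ?_ (mem_linStabilizer.mp (mem_stabOf_dualAct.mp hk) x)
  exact congrArg ν (Subtype.ext (MulAut.conjNormal_apply _ _))

/-- An element acting trivially on all linear characters of an abelian normal subgroup
centralises it. -/
theorem commute_of_dual_trivial {M K : Subgroup G} [M.Normal]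
    (hM : ∀ a b : M, a * b = b * a) {k : K} (hk : dualAct M K k = 1) (m : G) (hm : m ∈ M) :
    (k : G) * m = m * k := by
  letI : CommGroup M := { (inferInstance : Group M) with mul_comm := hM }
  have h1 : (MulAut.conjNormal (k : G) : MulAut M) ⟨m, hm⟩ = ⟨m, hm⟩ := by
    rw [← CommGroup.forall_apply_eq_apply_iff M (M := ℂ)]
    intro μ
    exact fixed_of_mem_stab (k := k) (by rw [mem_stabOf, hk]; rfl) _
  have h2 := congrArg Subtype.val h1
  rw [MulAut.conjNormal_apply] at h2
  exact mul_inv_eq_iff_eq_mul.mp h2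

/-- The dual of a minimal normal subgroup is irreducible. -/
theorem dual_irreducible {M P K : Subgroup G} [hMn : M.Normal] [P.Normal] (hM : ∀ a b : M, a * b = b * a)
    (hsup : P ⊔ K = ⊤) (hP : ∀ f : M →* ℂˣ, P ≤ linStabilizer M f)
    (hmin : ∀ W : Subgroup G, W.Normal → W ≤ M → W = ⊥ ∨ W = M)
    (U : Subgroup (M →* ℂˣ)) (hU : ∀ k, ∀ u ∈ U, dualAct M K k u ∈ U) : U = ⊥ ∨ U = ⊤ := by
  classical
  letI : CommGroup M := { (inferInstance : Group M) with mul_comm := hM }
  let W : Subgroup G :=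
    { carrier := {g | ∃ hg : g ∈ M, ∀ u ∈ U, u ⟨g, hg⟩ = 1}
      one_mem' := ⟨one_mem _, fun u _ => map_one u⟩
      mul_mem' := by
        rintro a b ⟨ha, ha'⟩ ⟨hb, hb'⟩
        exact ⟨mul_mem ha hb, fun u hu => by
          rw [show (⟨a * b, mul_mem ha hb⟩ : M) = ⟨a, ha⟩ * ⟨b, hb⟩ from rfl, map_mul, ha' u hu,
            hb' u hu, one_mul]⟩
      inv_mem' := by
        rintro a ⟨ha, ha'⟩
        exact ⟨inv_mem ha, fun u hu => by
          rw [show (⟨a⁻¹, inv_mem ha⟩ : M) = (⟨a, ha⟩ : M)⁻¹ from rfl, map_inv, ha' u hu, inv_one]⟩ }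
  have hWn : W.Normal := by
    refine ⟨fun w hw g => ?_⟩
    obtain ⟨hwM, hw'⟩ := hw
    refine ⟨hMn.conj_mem w hwM g, fun u hu => ?_⟩
    have hg : g ∈ ((P ⊔ K : Subgroup G) : Set G) := by rw [hsup]; trivial
    rw [Subgroup.normal_mul P K] at hg
    obtain ⟨x, hx, k, hk, rfl⟩ := hg
    have hu' : dualAct M K ⟨k, hk⟩⁻¹ u ∈ U := hU _ u hu
    have e : u ((MulAut.conjNormal (x * k) : MulAut M) ⟨w, hwM⟩) =
        dualAct M K ⟨k, hk⟩⁻¹ u ⟨w, hwM⟩ := by
      rw [map_mul, MulAut.mul_apply, dualAct_apply]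
      refine Eq.trans ?_ ((mem_linStabilizer.mp (hP u hx)
        ((MulAut.conjNormal k : MulAut M) ⟨w, hwM⟩)).trans (congrArg u (Subtype.ext (by simp))))
      exact congrArg u (Subtype.ext (MulAut.conjNormal_apply _ _))
    rw [show (⟨x * k * w * (x * k)⁻¹, hMn.conj_mem w hwM (x * k)⟩ : M) =
      (MulAut.conjNormal (x * k) : MulAut M) ⟨w, hwM⟩
      from Subtype.ext (MulAut.conjNormal_apply (x * k) ⟨w, hwM⟩).symm]
    exact e.trans (hw' _ hu')
  rcases hmin W hWn (fun g hg => hg.1) with e | e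
  · right
    let ι : M →* (U →* ℂˣ) :=
      { toFun := fun m =>
          { toFun := fun u => (u : M →* ℂˣ) m
            map_one' := rfl
            map_mul' := fun a b => rfl }
        map_one' := MonoidHom.ext fun u => map_one (u : M →* ℂˣ)
        map_mul' := fun a b => MonoidHom.ext fun u => map_mul (u : M →* ℂˣ) a b }
    have hinj : Function.Injective ι := (injective_iff_map_eq_one _).mpr fun m hm => by
      have : (m : G) ∈ W := ⟨m.2, fun u hu => DFunLike.congr_fun hm ⟨u, hu⟩⟩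
      rw [e, Subgroup.mem_bot] at this
      exact Subtype.ext this
    refine Subgroup.eq_top_of_le_card _ ?_
    rw [CommGroup.card_monoidHom_of_hasEnoughRootsOfUnity M ℂ,
      ← CommGroup.card_monoidHom_of_hasEnoughRootsOfUnity U ℂ]
    exact Nat.card_le_card_of_injective ι hinj
  · left
    refine (Subgroup.eq_bot_iff_forall _).mpr fun u hu => MonoidHom.ext fun m => ?_
    obtain ⟨hm, hm'⟩ := (e.symm ▸ m.2 : (m : G) ∈ W)
    exact hm' u hu

end Cfsg.Agent.H17.Palfy
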