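import Cfsg.Agent.H17.Palfy.CharTools
import Cfsg.Agent.H17.Palfy.Core
import Cfsg.Agent.H56.CliffordInertia
import Cfsg.Agent.H45.Gallagher
import Cfsg.Agent.H44.ItoMichler
import Cfsg.Agent.H25.SolvablePSolvable
import Cfsg.Agent.S0169

/-!
# Degrees above a linear character of a normal subgroup with a complement
-/

set_option autoImplicit false
set_option linter.all false

namespace Cfsg.Agent.H17.Palfy

variable {G : Type*} [Group G] [Finite G]

/-- Every Sylow `q`-subgroup is normal and abelian. -/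
def Good (q : ℕ) (G : Type*) [Group G] : Prop :=
  ∀ P : Sylow q G, (P : Subgroup G).Normal ∧ IsMulCommutative (P : Subgroup G)

/-- No degree is divisible by both primes. -/
def Apart (q r : ℕ) (G : Type*) [Group G] [Finite G] : Prop :=
  ∀ χ : Cfsg.IrrCharacter G, q ∣ Cfsg.charDegree (χ : G → ℂ) →
    r ∣ Cfsg.charDegree (χ : G → ℂ) → False

theorem Apart.symm {q r : ℕ} (h : Apart q r G) : Apart r q G := fun χ a b => h χ b a

/-- Itô: with a normal abelian Sylow subgroup no degree is divisible by the prime. -/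
theorem Good.not_dvd {q : ℕ} [Fact q.Prime] (h : Good q G) (χ : Cfsg.IrrCharacter G) :
    ¬ q ∣ Cfsg.charDegree (χ : G → ℂ) := by
  obtain ⟨P⟩ : Nonempty (Sylow q G) := inferInstance
  obtain ⟨hn, hc⟩ := h P
  haveI := hn
  obtain ⟨n, ρ, hρ, e⟩ := χ.2
  haveI := hρ
  intro hd
  have h1 := Cfsg.Agent.S0169.result ρ (P : Subgroup G) fun a ha b hb =>
    congrArg Subtype.val (hc.is_comm.comm ⟨a, ha⟩ ⟨b, hb⟩)
  rw [Module.finrank_fin_fun] at h1
  have : Cfsg.charDegree (χ : G → ℂ) = n := by simp [Cfsg.charDegree, ← e]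
  exact P.not_dvd_index ((this ▸ hd).trans h1)

/-- Itô–Michler for solvable groups. -/
theorem exists_dvd_of_not_good {q : ℕ} [Fact q.Prime] [Group.IsSolvable G] (h : ¬ Good q G) :
    ∃ χ : Cfsg.IrrCharacter G, q ∣ Cfsg.charDegree (χ : G → ℂ) := by
  by_contra hcon
  push Not at hcon
  exact h (H44.normal_sylow_of_not_dvd_degrees _ G rfl
    (H25.isPSolvable_of_isSolvable Fact.out _ G rfl inferInstance) hcon)

theorem good_of_not_dvd {q : ℕ} [Fact q.Prime] [Group.IsSolvable G]
    (h : ∀ χ : Cfsg.IrrCharacter G, ¬ q ∣ Cfsg.charDegree (χ : G → ℂ)) : Good q G := by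
  by_contra hcon
  obtain ⟨χ, hχ⟩ := exists_dvd_of_not_good hcon
  exact h χ hχ

theorem charDegree_linIrr {X : Type*} [Group X] [Finite X] (f : X →* ℂˣ) :
    Cfsg.charDegree ((H38.RealOdd.linIrr f : Cfsg.IrrCharacter X) : X → ℂ) = 1 := by
  simp [Cfsg.charDegree, H38.RealOdd.linIrr, H38.RealOdd.linFun]

/-- The automorphisms of a commutative group, with the multiplication of that structure. -/
abbrev AutOf (X : Type*) [CommGroup X] := MulAut X

/-- The action on the linear characters of a normal subgroup. -/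
noncomputable def dualAct (M : Subgroup G) [M.Normal] (K : Subgroup G) :
    K →* AutOf (M →* ℂˣ) where
  toFun k :=
    { toFun := fun f => f.comp (MulAut.conjNormal (k : G)⁻¹ : MulAut M).toMonoidHom
      invFun := fun f => f.comp (MulAut.conjNormal (k : G) : MulAut M).toMonoidHom
      left_inv := fun f => MonoidHom.ext fun m => congrArg f (Subtype.ext (by simp [mul_assoc]))
      right_inv := fun f => MonoidHom.ext fun m => congrArg f (Subtype.ext (by simp [mul_assoc]))
      map_mul' := fun f g => rfl }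
  map_one' := MulEquiv.ext fun f => MonoidHom.ext fun m => congrArg f (Subtype.ext (by simp))
  map_mul' a b := MulEquiv.ext fun f => MonoidHom.ext fun m =>
    congrArg f (Subtype.ext (by simp [mul_assoc]))

theorem dualAct_apply {M : Subgroup G} [M.Normal] {K : Subgroup G} (k : K) (f : M →* ℂˣ) (m : M) :
    dualAct M K k f m = f ((MulAut.conjNormal (k : G)⁻¹ : MulAut M) m) := rfl

/-- The stabiliser of a point. -/
def stabOf {K X : Type*} [Group K] [Group X] (φ : K →* MulAut X) (x : X) : Subgroup K :=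
  (MulAction.stabilizer (MulAut X) x).comap φ

theorem mem_stabOf {K X : Type*} [Group K] [Group X] {φ : K →* MulAut X} {x : X} {k : K} :
    k ∈ stabOf φ x ↔ φ k x = x := Iff.rfl

theorem mem_stabOf_dualAct {M : Subgroup G} [M.Normal] {K : Subgroup G} {f : M →* ℂˣ} {k : K} :
    k ∈ stabOf (dualAct M K) f ↔ (k : G) ∈ linStabilizer M f := by
  rw [mem_stabOf, mem_linStabilizer]
  constructor
  · intro h n
    have := DFunLike.congr_fun h ((MulAut.conjNormal (k : G) : MulAut M) n)
    rw [dualAct_apply] at this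
    refine (Eq.trans ?_ this.symm).trans (congrArg f (Subtype.ext (by simp [mul_assoc])))
    exact congrArg f (Subtype.ext (by simp [mul_assoc]))
  · intro h
    refine MonoidHom.ext fun n => ?_
    rw [dualAct_apply, ← h ((MulAut.conjNormal (k : G)⁻¹ : MulAut M) n)]
    exact congrArg f (Subtype.ext (by simp [mul_assoc]))

section Lift

variable (M P K : Subgroup G) [M.Normal] [P.Normal] (hMP : M ≤ P) (hsup : P ⊔ K = ⊤)
  (hdis : P ⊓ K = ⊥) (f : M →* ℂˣ) (hPf : P ≤ linStabilizer M f)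

include hsup hdis hPf in
theorem index_stabOf : (stabOf (dualAct M K) f).index = (linStabilizer M f).index := by
  rw [Subgroup.index_eq_card, Subgroup.index_eq_card]
  refine Nat.card_congr (Equiv.ofBijective (Quotient.map' (fun k : K => (k : G)) fun a b h => ?_) ⟨?_, ?_⟩)
  · rw [QuotientGroup.leftRel_apply] at h ⊢
    exact mem_stabOf_dualAct.mp h
  · intro a b h
    induction a using QuotientGroup.induction_on with | _ a =>
    induction b using QuotientGroup.induction_on with | _ b =>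
    exact QuotientGroup.eq.mpr (mem_stabOf_dualAct.mpr (by
      have := QuotientGroup.eq.mp h
      simpa using this))
  · intro c
    induction c using QuotientGroup.induction_on with | _ g =>
    have hg : g ∈ ((K ⊔ P : Subgroup G) : Set G) := by
      rw [sup_comm, hsup]; trivial
    rw [Subgroup.mul_normal K P] at hg
    obtain ⟨k, hk, p, hp, rfl⟩ := hg
    refine ⟨((⟨k, hk⟩ : K) : K ⧸ stabOf (dualAct M K) f), ?_⟩
    show ((k : G) : G ⧸ linStabilizer M f) = ((k * p : G) : G ⧸ linStabilizer M f)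
    rw [QuotientGroup.eq, inv_mul_cancel_left]
    exact hPf hp

include hsup hdis hPf in
/-- The stabiliser modulo `P` is the stabiliser in the complement. -/
theorem exists_proj : ∃ π : ↥(linStabilizer M f) →* ↥(stabOf (dualAct M K) f),
    Function.Surjective π ∧ ∀ t : ↥(linStabilizer M f), (t : G) * ((π t : K) : G)⁻¹ ∈ P := by
  set T := linStabilizer M f
  have hdec : ∀ t : T, ∃ k : ↥(stabOf (dualAct M K) f), (t : G) * ((k : K) : G)⁻¹ ∈ P := by
    intro t
    have hg : (t : G) ∈ ((P ⊔ K : Subgroup G) : Set G) := by rw [hsup]; trivial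
    rw [Subgroup.normal_mul P K] at hg
    obtain ⟨p, hp, k, hk, e⟩ := hg
    refine ⟨⟨⟨k, hk⟩, mem_stabOf_dualAct.mpr ?_⟩, ?_⟩
    · have : k = p⁻¹ * (t : G) := by rw [← e]; simp
      show k ∈ T
      rw [this]
      exact mul_mem (inv_mem (hPf hp)) t.2
    · show (t : G) * k⁻¹ ∈ P
      rw [← e]
      simpa using hp
  have huniq : ∀ (t : T) (k k' : ↥(stabOf (dualAct M K) f)), (t : G) * ((k : K) : G)⁻¹ ∈ P →
      (t : G) * ((k' : K) : G)⁻¹ ∈ P → k = k' := by
    intro t k k' h h'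
    have h1 : ((k : K) : G) * ((k' : K) : G)⁻¹ ∈ P ⊓ K := by
      refine Subgroup.mem_inf.mpr ⟨?_, mul_mem (k : K).2 (inv_mem (k' : K).2)⟩
      simpa [mul_assoc] using mul_mem (inv_mem h) h'
    rw [hdis, Subgroup.mem_bot, mul_inv_eq_one] at h1
    exact Subtype.ext (Subtype.ext h1)
  choose π hπ using hdec
  refine ⟨MonoidHom.mk' π fun a b => huniq _ _ _ (hπ _) ?_, fun k => ?_, hπ⟩
  · have : ((a * b : T) : G) * (((π a * π b : ↥(stabOf (dualAct M K) f)) : K) : G)⁻¹ =
        ((a : G) * ((b : G) * ((π b : K) : G)⁻¹) * (a : G)⁻¹) * ((a : G) * ((π a : K) : G)⁻¹) := by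
      push_cast
      group
    rw [this]
    exact mul_mem ((inferInstance : P.Normal).conj_mem _ (hπ b) _) (hπ a)
  · refine ⟨⟨((k : K) : G), mem_stabOf_dualAct.mp k.2⟩, huniq _ _ _ (hπ _) ?_⟩
    simp

include hsup hdis hPf in
/-- An invariant linear character of `P` extends to the stabiliser. -/
theorem exists_linear_ext (g : P →* ℂˣ)
    (hg : ∀ t ∈ linStabilizer M f, ∀ x y : P, (y : G) = t * x * t⁻¹ → g y = g x) :
    ∃ μ : ↥(linStabilizer M f) →* ℂˣ, ∀ x : P, μ ⟨x, hPf x.2⟩ = g x := by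
  obtain ⟨π, -, hπ⟩ := exists_proj M P K hsup hdis f hPf
  refine ⟨MonoidHom.mk' (fun t => g ⟨_, hπ t⟩) fun a b => ?_, fun x => ?_⟩
  · let c : P := ⟨(a : G) * ((b : G) * ((π b : K) : G)⁻¹) * (a : G)⁻¹,
      (inferInstance : P.Normal).conj_mem _ (hπ b) _⟩
    have e : (⟨_, hπ (a * b)⟩ : P) = c * ⟨_, hπ a⟩ := Subtype.ext (by
      simp only [c, Subgroup.coe_mul, map_mul]
      group)
    rw [e, map_mul, hg a a.2 ⟨_, hπ b⟩ c rfl, mul_comm]
  · show g ⟨_, hπ _⟩ = g x
    congr 1
    refine Subtype.ext ?_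
    have h1 : (((π ⟨x, hPf x.2⟩ : ↥(stabOf (dualAct M K) f)) : K) : G) ∈ P ⊓ K := by
      refine Subgroup.mem_inf.mpr ⟨?_, SetLike.coe_mem _⟩
      simpa using mul_mem (inv_mem (hπ ⟨x, hPf x.2⟩)) x.2
    rw [hdis, Subgroup.mem_bot] at h1
    simp [h1]

include hMP hsup hdis hPf in
/-- Every character of the stabiliser in the complement gives a character of `G`. -/
theorem exists_degree_lift (E : Cfsg.IrrCharacter ↥(linStabilizer M f))
    (hE : Cfsg.IsIrrCharacter ↥(P.subgroupOf (linStabilizer M f)) fun n => E.1 n)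
    (hEM : ∀ m : M, E.1 ⟨m, hPf (hMP m.2)⟩ = E.1 1 * f m)
    (η : Cfsg.IrrCharacter ↥(stabOf (dualAct M K) f)) :
    ∃ χ : Cfsg.IrrCharacter G, Cfsg.charDegree (χ : G → ℂ) = (stabOf (dualAct M K) f).index *
      (Cfsg.charDegree (E : ↥(linStabilizer M f) → ℂ) *
        Cfsg.charDegree (η : ↥(stabOf (dualAct M K) f) → ℂ)) := by
  classical
  haveI := Fintype.ofFinite G
  obtain ⟨π, hπs, hπ⟩ := exists_proj M P K hsup hdis f hPf
  set P' := P.subgroupOf (linStabilizer M f) with hP'
  haveI : Fintype ↥(linStabilizer M f) := Fintype.ofFinite _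
  haveI : Fintype ↥P' := Fintype.ofFinite _
  haveI : Fintype (↥(linStabilizer M f) ⧸ P') := Fintype.ofFinite _
  haveI : Fintype M := Fintype.ofFinite _
  haveI : Fintype ↥(M.subgroupOf (linStabilizer M f)) := Fintype.ofFinite _
  have hker : P' ≤ π.ker := by
    intro t ht
    have h1 : (((π t : (stabOf (dualAct M K) f)) : K) : G) ∈ P ⊓ K := by
      refine Subgroup.mem_inf.mpr ⟨?_, SetLike.coe_mem _⟩
      simpa using mul_mem (inv_mem (hπ t)) (Subgroup.mem_subgroupOf.mp ht)
    rw [hdis, Subgroup.mem_bot] at h1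
    exact MonoidHom.mem_ker.mpr (Subtype.ext (Subtype.ext h1))
  let η' : Cfsg.IrrCharacter (↥(linStabilizer M f) ⧸ P') := ⟨fun x => η.1 (QuotientGroup.lift P' π hker x),
    H44.isIrrCharacter_comp_surjective (QuotientGroup.lift P' π hker) (fun i => by
      obtain ⟨t, ht⟩ := hπs i
      exact ⟨(t : ↥(linStabilizer M f) ⧸ P'), ht⟩) η.2⟩
  let ψ : Cfsg.IrrCharacter ↥(linStabilizer M f) := ⟨_, H45.isIrrCharacter_extMul P' E hE η'⟩
  have hψm : ∀ m : M, ψ.1 ⟨m, hPf (hMP m.2)⟩ = (E.1 1 * η.1 1) * (f m : ℂ) := by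
    intro m
    show E.1 _ * η.1 (π _) = _
    rw [hEM, MonoidHom.mem_ker.mp (hker (Subgroup.mem_subgroupOf.mpr (hMP m.2)))]
    ring
  have hψ1 : ψ.1 1 = E.1 1 * η.1 1 := by
    show E.1 1 * η.1 (π 1) = _
    rw [map_one]
  have hne : E.1 1 * η.1 1 ≠ 0 := mul_ne_zero (H26.irr_one_ne_zero E) (H26.irr_one_ne_zero η)
  have hc : Cfsg.classInner (fun n : M.subgroupOf (linStabilizer M f) => ψ.1 n)
      (H56.resT M (linStabilizer M f) (H38.RealOdd.linFun f)) ≠ 0 := by
    have e : (fun n : M.subgroupOf (linStabilizer M f) => ψ.1 n) =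
        (E.1 1 * η.1 1) • H56.resT M (linStabilizer M f) (H38.RealOdd.linFun f) := by
      funext n
      exact hψm ⟨_, Subgroup.mem_subgroupOf.mp n.2⟩
    rw [e, H26.classInner_smul_left]
    refine mul_ne_zero hne ?_
    have hres : Cfsg.IsIrrCharacter ↥(M.subgroupOf (linStabilizer M f)) (H56.resT M (linStabilizer M f) (H38.RealOdd.linFun f)) :=
      H56.isIrrCharacter_resT M (linStabilizer M f) (H38.RealOdd.linIrr f).2 (hMP.trans hPf)
    have h1 := H26.classInner_irr (⟨_, hres⟩ : Cfsg.IrrCharacter _) ⟨_, hres⟩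
    rw [if_pos rfl] at h1
    rw [h1]
    exact one_ne_zero
  have hχ := (H56.clifford_induced M (linStabilizer M f) (H38.RealOdd.linIrr f).2
    (fun g => H44.mem_inertia M) ψ.2 hc).1
  refine ⟨⟨_, hχ⟩, ?_⟩
  have h1 : (Cfsg.charDegree (Cfsg.indFun (linStabilizer M f) ψ.1) : ℂ) = ((linStabilizer M f).index : ℂ) * (E.1 1 * η.1 1) := by
    rw [← hψ1, ← H25.indFun_one]
    exact H44.cast_charDegree ⟨_, hχ⟩
  rw [← H44.cast_charDegree, ← H44.cast_charDegree, ← index_stabOf M P K hsup hdis f hPf] at h1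
  exact_mod_cast h1

include hMP hsup hdis hPf in
/-- The consequences for a prime `q` apart from a prime `p` dividing all degrees above `f`. -/
theorem not_dvd_and_good [Group.IsSolvable G] {p q : ℕ} [Fact q.Prime] (hapart : Apart p q G)
    (E : Cfsg.IrrCharacter ↥(linStabilizer M f))
    (hE : Cfsg.IsIrrCharacter ↥(P.subgroupOf (linStabilizer M f)) fun n => E.1 n)
    (hEM : ∀ m : M, E.1 ⟨m, hPf (hMP m.2)⟩ = E.1 1 * f m)
    (hp : p ∣ (stabOf (dualAct M K) f).index * Cfsg.charDegree (E : ↥(linStabilizer M f) → ℂ)) :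
    ¬ q ∣ (stabOf (dualAct M K) f).index ∧ Good q ↥(stabOf (dualAct M K) f) := by
  have hall : ∀ η : Cfsg.IrrCharacter ↥(stabOf (dualAct M K) f),
      ¬ q ∣ (stabOf (dualAct M K) f).index ∧
      ¬ q ∣ Cfsg.charDegree (η : ↥(stabOf (dualAct M K) f) → ℂ) := by
    intro η
    obtain ⟨χ, hχ⟩ := exists_degree_lift M P K hMP hsup hdis f hPf E hE hEM η
    have hpd : p ∣ Cfsg.charDegree (χ : G → ℂ) := by
      rw [hχ, ← mul_assoc]
      exact hp.mul_right _
    exact ⟨fun h => hapart χ hpd (hχ ▸ h.mul_right _),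
      fun h => hapart χ hpd (hχ ▸ (h.mul_left _).mul_left _)⟩
  exact ⟨(hall (H26.oneIrr _)).1, good_of_not_dvd fun η => (hall η).2⟩

end Lift

end Cfsg.Agent.H17.Palfy
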