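import Cfsg.Agent.H17.Palfy.CaseNormal
import Cfsg.Agent.H24.PGroupBasic

/-!
# Pálfy's theorem on three primes
-/

set_option autoImplicit false
set_option linter.all false

namespace Cfsg.Agent.H17.Palfy

open scoped commutatorElement

universe u

variable {G : Type u} [Group G] [Finite G]

theorem good_of_normal_abelian {q : ℕ} [Fact q.Prime] (P : Sylow q G)
    (hn : (P : Subgroup G).Normal) (hc : IsMulCommutative (P : Subgroup G)) : Good q G := by
  intro W
  haveI := Sylow.unique_of_normal P hn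
  obtain rfl : W = P := Subsingleton.elim _ _
  exact ⟨hn, hc⟩

/-- A Sylow subgroup normal in a quotient spans a normal subgroup with the kernel. -/
theorem normal_sup_of_good {q : ℕ} [Fact q.Prime] (M : Subgroup G) [M.Normal]
    (h : Good q (G ⧸ M)) (P : Sylow q G) : ((P : Subgroup G) ⊔ M).Normal := by
  have hn := (h (P.mapSurjective (QuotientGroup.mk'_surjective M))).1
  rw [Sylow.coe_mapSurjective] at hn
  have h2 := hn.comap (QuotientGroup.mk' M)
  rwa [Subgroup.comap_map_eq, QuotientGroup.ker_mk'] at h2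

/-- Commutativity of the image of a Sylow subgroup. -/
theorem comm_mem_of_good {q : ℕ} [Fact q.Prime] (M : Subgroup G) [M.Normal]
    (h : Good q (G ⧸ M)) (P : Sylow q G) {a b : G} (ha : a ∈ (P : Subgroup G))
    (hb : b ∈ (P : Subgroup G)) : ⁅a, b⁆ ∈ M := by
  have hc := (h (P.mapSurjective (QuotientGroup.mk'_surjective M))).2
  refine (QuotientGroup.eq_one_iff _).mp ?_
  show QuotientGroup.mk' M ⁅a, b⁆ = 1
  rw [map_commutatorElement, commutatorElement_eq_one_iff_mul_comm]
  exact congrArg Subtype.val (hc.is_comm.comm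
    ⟨QuotientGroup.mk' M a, by rw [Sylow.coe_mapSurjective]; exact ⟨a, ha, rfl⟩⟩
    ⟨QuotientGroup.mk' M b, by rw [Sylow.coe_mapSurjective]; exact ⟨b, hb, rfl⟩⟩)

theorem exists_minimal_le (N : Subgroup G) [N.Normal] (hN : N ≠ ⊥) :
    ∃ M : Subgroup G, M.Normal ∧ M ≠ ⊥ ∧ M ≤ N ∧
      ∀ W : Subgroup G, W.Normal → W ≤ M → W = ⊥ ∨ W = M := by
  obtain ⟨M, ⟨hMn, hM1, hMN⟩, hmin⟩ :=
    (Set.toFinite {W : Subgroup G | W.Normal ∧ W ≠ ⊥ ∧ W ≤ N}).exists_minimal
      ⟨N, inferInstance, hN, le_rfl⟩
  refine ⟨M, hMn, hM1, hMN, fun W hW hWM => ?_⟩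
  by_cases h : W = ⊥
  · exact Or.inl h
  · exact Or.inr (le_antisymm hWM (hmin ⟨hW, h, hWM.trans hMN⟩ hWM))

/-- A prime lost in the quotient by a small normal `p`-subgroup. -/
theorem good_of_good_quotient {p t : ℕ} [Fact p.Prime] [Fact t.Prime] (hpt : p ≠ t)
    (P : Sylow p G) (hPn : (P : Subgroup G).Normal) (M : Subgroup G) [hMn : M.Normal]
    (hMP : M ≤ ⁅(P : Subgroup G), (P : Subgroup G)⁆) (h : Good t (G ⧸ M)) : Good t G := by
  haveI := hPn
  obtain ⟨Q⟩ : Nonempty (Sylow t G) := inferInstance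
  have hMP' : M ≤ (P : Subgroup G) := hMP.trans (Subgroup.commutator_le_self _)
  have hQM := normal_sup_of_good M h Q
  set A := Subgroup.normalizer ((Q : Subgroup G) : Set G) with hA
  have hsup : A ⊔ M = ⊤ := by
    haveI := hQM
    have h' := Q.normalizer_sup_eq_top' (N := (Q : Subgroup G) ⊔ M) le_sup_left
    exact top_unique ((ge_of_eq h').trans (sup_le le_sup_left (sup_le
      (Subgroup.le_normalizer.trans le_sup_left) le_sup_right)))
  have hPA : (P : Subgroup G) ≤ A := by
    have htop : A.subgroupOf (P : Subgroup G) ⊔ frattini (P : Subgroup G) = ⊤ := by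
      refine top_unique fun x _ => ?_
      have hx : (x : G) ∈ ((A ⊔ M : Subgroup G) : Set G) := by rw [hsup]; trivial
      rw [Subgroup.mul_normal A M] at hx
      obtain ⟨a, ha, m, hm, e⟩ := hx
      have hmc : (⟨m, hMP' hm⟩ : (P : Subgroup G)) ∈ commutator (P : Subgroup G) := by
        have h1 := hMP hm
        rw [← Subgroup.map_subtype_commutator] at h1
        obtain ⟨y, hy, ey⟩ := h1
        rwa [show (⟨m, hMP' hm⟩ : (P : Subgroup G)) = y from Subtype.ext ey.symm]
      have haP : a ∈ (P : Subgroup G) := by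
        have : a = x * m⁻¹ := by rw [← e]; simp
        rw [this]
        exact mul_mem x.2 (inv_mem (hMP' hm))
      rw [show x = (⟨a, haP⟩ : (P : Subgroup G)) * ⟨m, hMP' hm⟩ from Subtype.ext e.symm]
      exact mul_mem (Subgroup.mem_sup_left (Subgroup.mem_subgroupOf.mpr ha))
        (Subgroup.mem_sup_right (H24.commutator_le_frattini P.isPGroup' hmc))
    have := frattini_nongenerating htop
    intro x hx
    exact Subgroup.mem_subgroupOf.mp (this.symm ▸ Subgroup.mem_top (⟨x, hx⟩ : (P : Subgroup G)))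
  have hQn : (Q : Subgroup G).Normal := by
    refine Subgroup.normalizer_eq_top_iff.mp ?_
    rw [sup_eq_left.mpr (hMP'.trans hPA)] at hsup
    exact hsup
  refine good_of_normal_abelian Q hQn ⟨⟨fun a b => ?_⟩⟩
  have h1 := comm_mem_of_good M h Q a.2 b.2
  have h2 : ⁅(a : G), (b : G)⁆ ∈ (Q : Subgroup G) := by
    rw [commutatorElement_def]
    exact mul_mem (mul_mem (mul_mem a.2 b.2) (inv_mem a.2)) (inv_mem b.2)
  have h3 : ⁅(a : G), (b : G)⁆ = 1 := Subgroup.mem_bot.mp
    ((IsPGroup.disjoint_of_ne t p hpt.symm _ _ Q.isPGroup' (P.isPGroup'.to_le hMP')).le_bot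
      (Subgroup.mem_inf.mpr ⟨h2, h1⟩))
  exact Subtype.ext (commutatorElement_eq_one_iff_mul_comm.mp h3)

/-- The induction step when a Sylow subgroup is normal. -/
theorem step_normal [Group.IsSolvable G] {p q r : ℕ} [Fact p.Prime] [Fact q.Prime] [Fact r.Prime]
    (hpq : p ≠ q) (hpr : p ≠ r) (hqr : q ≠ r) (hgp : ¬ Good p G) (hgq : ¬ Good q G)
    (hgr : ¬ Good r G) (hapq : Apart p q G) (hapr : Apart p r G) (hap : Apart q r G)
    (P : Sylow p G) (hPn : (P : Subgroup G).Normal)
    (ih : ∀ (M : Subgroup G) [M.Normal], M ≠ ⊥ → Good p (G ⧸ M) ∨ Good q (G ⧸ M) ∨ Good r (G ⧸ M)) :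
    False := by
  haveI := hPn
  have hder : ⁅(P : Subgroup G), (P : Subgroup G)⁆ ≠ ⊥ := fun e => hgp
    (good_of_normal_abelian P hPn ⟨⟨fun a b => Subtype.ext (commutatorElement_eq_one_iff_mul_comm.mp
      (Subgroup.mem_bot.mp (e ▸ Subgroup.commutator_mem_commutator a.2 b.2)))⟩⟩)
  obtain ⟨M, hMn, hM1, hMd, hmin⟩ := exists_minimal_le ⁅(P : Subgroup G), (P : Subgroup G)⁆ hder
  haveI := hMn
  have hMP : M ≤ (P : Subgroup G) := hMd.trans (Subgroup.commutator_le_self _)
  rcases ih M hM1 with h | h | h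
  · -- the derived subgroup is minimal
    have hder' : ⁅(P : Subgroup G), (P : Subgroup G)⁆ = M :=
      le_antisymm (Subgroup.commutator_le.mpr fun a ha b hb => comm_mem_of_good M h P ha hb) hMd
    obtain ⟨K, hK⟩ := Subgroup.exists_right_complement'_of_coprime
      (N := (P : Subgroup G)) (by
        obtain ⟨i, hi⟩ := IsPGroup.iff_card.mp P.isPGroup'
        rw [hi]
        exact Nat.Coprime.pow_left i ((Fact.out : p.Prime).coprime_iff_not_dvd.mpr P.not_dvd_index))
    have hW : (M ⊓ Subgroup.centralizer ((P : Subgroup G) : Set G)) = M := by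
      refine (hmin _ inferInstance inf_le_left).resolve_left fun hbot => ?_
      letI : MulAction (P : Subgroup G) M :=
        MulAction.compHom M ((MulAut.conjNormal : G →* MulAut M).comp (P : Subgroup G).subtype)
      obtain ⟨j, hj⟩ := IsPGroup.iff_card.mp (P.isPGroup'.to_le hMP)
      have hj0 : j ≠ 0 := by
        rintro rfl
        exact hM1 (Subgroup.card_eq_one.mp (by simpa using hj))
      obtain ⟨m, hm, hm1⟩ := P.isPGroup'.exists_fixed_point_of_prime_dvd_card_of_fixed_point M
        (hj ▸ dvd_pow_self p hj0) (a := 1) (fun x => map_one ((MulAut.conjNormal : G →* MulAut M) (x : G)))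
      refine hm1 (Subtype.ext ?_).symm
      refine Subgroup.mem_bot.mp (hbot ▸ Subgroup.mem_inf.mpr ⟨m.2, ?_⟩)
      refine Subgroup.mem_centralizer_iff.mpr fun x hx => ?_
      have h1 : ((MulAut.conjNormal x : MulAut M) m : G) = m := congrArg Subtype.val (hm ⟨x, hx⟩)
      rw [MulAut.conjNormal_apply] at h1
      exact mul_inv_eq_iff_eq_mul.mp h1
    have S : Setting p M (P : Subgroup G) K :=
      { le := hMP
        central := fun m hm x hx =>
          Subgroup.mem_centralizer_iff.mp (inf_eq_left.mp hW hm) x hx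
        sup := hK.sup_eq_top
        dis := hK.disjoint.eq_bot
        pgroup := P.isPGroup'
        coprime := by
          rw [← hK.symm.index_eq_card]
          exact P.not_dvd_index
        der := hder'
        min := hmin }
    exact S.case_normal hM1 hpq hpr hqr hapq hapr hap hgq hgr
  · exact hgq (good_of_good_quotient hpq P hPn M hMd h)
  · exact hgr (good_of_good_quotient hpr P hPn M hMd h)

/-- Three primes cannot be pairwise apart. -/
theorem three_primes :
    ∀ (n : ℕ) (G : Type u) [Group G] [Finite G], Nat.card G = n → Group.IsSolvable G →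
      ∀ p q r : ℕ, p.Prime → q.Prime → r.Prime → p ≠ q → q ≠ r → p ≠ r →
        ¬ Good p G → ¬ Good q G → ¬ Good r G →
        Apart p q G → Apart q r G → Apart p r G → False := by
  intro n
  induction n using Nat.strong_induction_on with
  | _ n ih =>
  intro G _ _ hn hsol p q r hp hq hr hpq hqr hpr hgp hgq hgr hapq hap hapr
  haveI := hsol
  haveI := Fact.mk hp
  haveI := Fact.mk hq
  haveI := Fact.mk hr
  have hrec : ∀ (M : Subgroup G) [M.Normal], M ≠ ⊥ →
      Good p (G ⧸ M) ∨ Good q (G ⧸ M) ∨ Good r (G ⧸ M) := by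
    intro M _ hM
    by_contra hcon
    push Not at hcon
    refine ih (Nat.card (G ⧸ M)) ?_ (G ⧸ M) rfl inferInstance p q r hp hq hr hpq hqr hpr hcon.1
      hcon.2.1 hcon.2.2 (hapq.of_surjective _ (QuotientGroup.mk'_surjective M))
      (hap.of_surjective _ (QuotientGroup.mk'_surjective M))
      (hapr.of_surjective _ (QuotientGroup.mk'_surjective M))
    rw [← hn, M.card_eq_card_quotient_mul_card_subgroup]
    exact lt_mul_of_one_lt_right Nat.card_pos (M.one_lt_card_iff_ne_bot.mpr hM)
  by_cases hP : ∃ P : Sylow p G, (P : Subgroup G).Normal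
  · obtain ⟨P, hPn⟩ := hP
    exact step_normal hpq hpr hqr hgp hgq hgr hapq hapr hap P hPn hrec
  by_cases hQ : ∃ P : Sylow q G, (P : Subgroup G).Normal
  · obtain ⟨P, hPn⟩ := hQ
    exact step_normal hpq.symm hqr hpr hgq hgp hgr hapq.symm hap hapr P hPn fun M _ hM => by
      rcases hrec M hM with h | h | h
      · exact Or.inr (Or.inl h)
      · exact Or.inl h
      · exact Or.inr (Or.inr h)
  by_cases hR : ∃ P : Sylow r G, (P : Subgroup G).Normal
  · obtain ⟨P, hPn⟩ := hR
    exact step_normal hpr.symm hqr.symm hpq hgr hgp hgq hapr.symm hap.symm hapq P hPn fun M _ hM => by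
      rcases hrec M hM with h | h | h
      · exact Or.inr (Or.inl h)
      · exact Or.inr (Or.inr h)
      · exact Or.inl h
  push Not at hP hQ hR
  haveI : Nontrivial G := by
    by_contra h
    rw [not_nontrivial_iff_subsingleton] at h
    exact hP default ⟨fun x hx g => by rwa [Subsingleton.elim (g * x * g⁻¹) x]⟩
  obtain ⟨M, hMn, hM1, -, hmin⟩ := exists_minimal_le (⊤ : Subgroup G) top_ne_bot
  haveI := hMn
  rcases hrec M hM1 with h | h | h
  · obtain ⟨P⟩ : Nonempty (Sylow p G) := inferInstance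
    exact case_none hqr hapq hapr hap M hM1 hmin P (hP P) hQ hR (normal_sup_of_good M h P)
  · obtain ⟨P⟩ : Nonempty (Sylow q G) := inferInstance
    exact case_none hpr hapq.symm hap hapr M hM1 hmin P (hQ P) hP hR (normal_sup_of_good M h P)
  · obtain ⟨P⟩ : Nonempty (Sylow r G) := inferInstance
    exact case_none hpq hapr.symm hap.symm hapq M hM1 hmin P (hR P) hP hQ (normal_sup_of_good M h P)

end Cfsg.Agent.H17.Palfy
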