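import Cfsg.Agent.H17.Palfy.ClassTwoLift
import Cfsg.Agent.H17.Palfy.Count
import Cfsg.Agent.H43.GlaubermanSolvable
import Cfsg.Agent.H23.ClassTwo

/-!
# The case of a non-abelian normal Sylow subgroup: setting and radical
-/

set_option autoImplicit false
set_option linter.all false

namespace Cfsg.Agent.H17.Palfy

open scoped commutatorElement

variable {G : Type*} [Group G] [Finite G]

/-- A normal `p`-subgroup of class two with chief derived subgroup, and a complement. -/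
structure Setting (p : ℕ) (M P K : Subgroup G) : Prop where
  le : M ≤ P
  central : ∀ m ∈ M, ∀ x ∈ P, x * m = m * x
  sup : P ⊔ K = ⊤
  dis : P ⊓ K = ⊥
  pgroup : IsPGroup p P
  coprime : ¬ p ∣ Nat.card K
  der : ⁅P, P⁆ = M
  min : ∀ W : Subgroup G, W.Normal → W ≤ M → W = ⊥ ∨ W = M

namespace Setting

variable {p q : ℕ} [Fact p.Prime] [Fact q.Prime] {M P K : Subgroup G} [hMn : M.Normal]
  [hPn : P.Normal] (S : Setting p M P K)
include S

theorem mab : ∀ a b : M, a * b = b * a := fun a b =>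
  Subtype.ext (S.central b b.2 a (S.le a.2))

theorem le_stab (f : M →* ℂˣ) : P ≤ linStabilizer M f := fun x hx =>
  mem_linStabilizer.mpr fun m => congrArg f (Subtype.ext (by
    show x * m * x⁻¹ = m
    rw [S.central m m.2 x hx, mul_inv_cancel_right]))

theorem comm_mem {a b : G} (ha : a ∈ P) (hb : b ∈ P) : ⁅a, b⁆ ∈ M :=
  S.der ▸ Subgroup.commutator_mem_commutator ha hb

theorem comm_mul {a a' b : G} (ha : a ∈ P) (ha' : a' ∈ P) (hb : b ∈ P) :
    ⁅a * a', b⁆ = ⁅a, b⁆ * ⁅a', b⁆ := by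
  rw [H23.commutator_mul_left, S.central _ (S.comm_mem ha' hb) a ha, mul_inv_cancel_right]
  exact (S.central _ (S.comm_mem ha hb) _ (S.le (S.comm_mem ha' hb)))

theorem comm_mul_right {a b b' : G} (ha : a ∈ P) (hb : b ∈ P) (hb' : b' ∈ P) :
    ⁅a, b * b'⁆ = ⁅a, b⁆ * ⁅a, b'⁆ := by
  rw [show ⁅a, b * b'⁆ = ⁅a, b⁆ * (b * ⁅a, b'⁆ * b⁻¹) by simp only [commutatorElement_def]; group,
    S.central _ (S.comm_mem ha hb') b hb, mul_inv_cancel_right]

theorem card_ne (hpq : p ≠ q) : ¬ q ∣ Nat.card P := by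
  obtain ⟨i, hi⟩ := IsPGroup.iff_card.mp S.pgroup
  rw [hi]
  intro h
  exact hpq ((Nat.prime_dvd_prime_iff_eq Fact.out Fact.out).mp
    ((Fact.out : q.Prime).dvd_of_dvd_pow h)).symm

theorem coprime_orderOf {x g : G} (hx : x ∈ P) {T : Subgroup K} (hT : IsPGroup q T)
    (hg : g ∈ T.map K.subtype) (hpq : p ≠ q) : (orderOf x).Coprime (orderOf g) := by
  obtain ⟨i, hi⟩ := IsPGroup.iff_orderOf.mp S.pgroup ⟨x, hx⟩
  obtain ⟨j, hj⟩ := IsPGroup.iff_orderOf.mp (hT.map K.subtype) ⟨g, hg⟩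
  rw [Subgroup.orderOf_mk] at hi hj
  rw [hi, hj]
  exact Nat.Coprime.pow _ _ ((Nat.coprime_primes Fact.out Fact.out).mpr hpq)

/-- A normal Sylow subgroup of the complement fixes the characters above a non-principal one. -/
theorem sylow_le_inertia (hpq : p ≠ q) (hap : Apart p q G) (T : Sylow q K)
    (hTn : (T : Subgroup K).Normal) {f : M →* ℂˣ} (hf : f ≠ 1) (θ : Cfsg.IrrCharacter P)
    (hθ : ∀ m : M, θ.1 ⟨m, S.le m.2⟩ = θ.1 1 * f m) :
    (T : Subgroup K).map K.subtype ≤ H44.inertia P θ.1 := by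
  classical
  haveI := Fintype.ofFinite G
  haveI : Fintype P := Fintype.ofFinite _
  obtain ⟨χ, hχ⟩ := H44.exists_irr_over P θ
  have hd := H44.degree_mul_index_inertia_dvd P χ θ hχ
  have hnd : ¬ q ∣ (H44.inertia P θ.1).index := fun h => hap χ
    (((dvd_degree_over M P S.le S.pgroup S.der.ge hf θ hθ).mul_left _).trans hd)
    ((h.mul_right _).trans hd)
  obtain ⟨T', hT'⟩ := H25.exists_sylow_le_of_not_dvd_index _ hnd
  have hPI : P ≤ H44.inertia P θ.1 := H44.le_inertia P (H26.irr_isClassFunction θ)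
  have hidx : ¬ q ∣ ((T : Subgroup K).map K.subtype).index := by
    have hc : Subgroup.IsComplement' P K :=
      Subgroup.isComplement'_of_disjoint_and_mul_eq_univ (disjoint_iff.mpr S.dis) (by
        rw [← Subgroup.normal_mul P K, S.sup]; rfl)
    rw [Subgroup.index_map_subtype, hc.index_eq_card]
    intro h
    rcases (Fact.out : q.Prime).dvd_mul.mp h with h | h
    · exact T.not_dvd_index h
    · exact S.card_ne hpq h
  set Q₁ := (T.isPGroup'.map K.subtype).toSylow hidx with hQ₁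
  have hQ₁c : (Q₁ : Subgroup G) = (T : Subgroup K).map K.subtype := IsPGroup.toSylow_coe _ _
  obtain ⟨h, hh⟩ := MulAction.exists_smul_eq G Q₁ T'
  have hg : h ∈ ((P ⊔ K : Subgroup G) : Set G) := by rw [S.sup]; trivial
  rw [Subgroup.normal_mul P K] at hg
  obtain ⟨y, hy, k, hk, rfl⟩ := hg
  rintro _ ⟨t, ht, rfl⟩
  obtain ⟨u, hu, hu'⟩ : ∃ u ∈ (T : Subgroup K), (k : G) * u * k⁻¹ = t := by
    refine ⟨⟨k, hk⟩⁻¹ * t * ⟨k, hk⟩, ?_, by simp [mul_assoc]⟩
    show _ ∈ (T : Subgroup K)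
    simpa using hTn.conj_mem t ht ⟨k, hk⟩⁻¹
  have hmem : y * t * y⁻¹ ∈ (T' : Subgroup G) := by
    rw [← hh, Sylow.coe_subgroup_smul, hQ₁c]
    refine ⟨u, ⟨u, hu, rfl⟩, ?_⟩
    show y * k * u * (y * k)⁻¹ = y * t * y⁻¹
    rw [← hu']
    group
  have := mul_mem (mul_mem (inv_mem (hPI hy)) (hT' hmem)) (hPI hy)
  simpa [mul_assoc] using this

/-- An element of the radical of a non-principal character is centralised. -/
theorem radical_commute [Group.IsSolvable G] (hpq : p ≠ q) (hap : Apart p q G) (T : Sylow q K)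
    (hTn : (T : Subgroup K).Normal)
    (hTc : ∀ k ∈ (T : Subgroup K), ∀ m ∈ M, (k : G) * m = m * k)
    {f : M →* ℂˣ} (hf : f ≠ 1) {x : G} (hx : x ∈ P)
    (hrad : ∀ (y : G) (hy : y ∈ P), f ⟨⁅x, y⁆, S.comm_mem hx hy⟩ = 1) :
    ∀ k ∈ (T : Subgroup K), (k : G) * x = x * k := by
  classical
  intro k hk
  haveI : Fintype P := Fintype.ofFinite _
  let Z : Subgroup P :=
    { carrier := {z | ∀ y : P, f ⟨⁅(z : G), (y : G)⁆, S.comm_mem z.2 y.2⟩ = 1}
      one_mem' := fun y => by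
        rw [show (⟨⁅((1 : P) : G), (y : G)⁆, S.comm_mem (1 : P).2 y.2⟩ : M) = 1 from
          Subtype.ext (by simp), map_one]
      mul_mem' := fun {a b} ha hb y => by
        rw [show (⟨⁅((a * b : P) : G), (y : G)⁆, S.comm_mem (a * b).2 y.2⟩ : M) =
          ⟨⁅(a : G), (y : G)⁆, S.comm_mem a.2 y.2⟩ * ⟨⁅(b : G), (y : G)⁆, S.comm_mem b.2 y.2⟩ from
          Subtype.ext (S.comm_mul a.2 b.2 y.2), map_mul, ha y, hb y, one_mul]
      inv_mem' := fun {a} ha y => by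
        have h : (⟨⁅((a⁻¹ : P) : G), (y : G)⁆, S.comm_mem (a⁻¹).2 y.2⟩ : M) *
            ⟨⁅(a : G), (y : G)⁆, S.comm_mem a.2 y.2⟩ = 1 := Subtype.ext (by
          show ⁅((a⁻¹ : P) : G), (y : G)⁆ * ⁅(a : G), (y : G)⁆ = 1
          rw [← S.comm_mul (a⁻¹).2 a.2 y.2, ← Subgroup.coe_mul, inv_mul_cancel, Subgroup.coe_one]
          simp)
        have h2 := congrArg f h
        rwa [map_mul, map_one, ha y, mul_one] at h2 }
  have hMZ : ∀ m : M, (⟨m, S.le m.2⟩ : P) ∈ Z := fun m y => by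
    rw [show (⟨⁅((⟨(m : G), S.le m.2⟩ : P) : G), (y : G)⁆, S.comm_mem (S.le m.2) y.2⟩ : M) = 1
      from Subtype.ext (commutatorElement_eq_one_iff_mul_comm.mpr (S.central m m.2 y y.2).symm),
      map_one]
  have hZn : Z.Normal := ⟨fun z hz y => by
    have hd : (⟨⁅(y : G), (z : G)⁆, S.le (S.comm_mem y.2 z.2)⟩ : P) ∈ Z :=
      hMZ ⟨_, S.comm_mem y.2 z.2⟩
    have e : y * z * y⁻¹ = ⟨⁅(y : G), (z : G)⁆, S.le (S.comm_mem y.2 z.2)⟩ * z := Subtype.ext (by
      show (y : G) * z * (y : G)⁻¹ = ⁅(y : G), (z : G)⁆ * z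
      rw [commutatorElement_def]; group)
    rw [e]
    exact mul_mem hd hz⟩
  haveI := hZn
  let j : M →* Z :=
    { toFun := fun m => ⟨⟨m, S.le m.2⟩, hMZ m⟩
      map_one' := rfl
      map_mul' := fun a b => rfl }
  have hjinj : Function.Injective j := fun a b h => Subtype.ext
    (congrArg (fun z : Z => ((z : P) : G)) h)
  set D : Subgroup Z := f.ker.map j with hD
  haveI : D.Normal := ⟨by
    rintro _ ⟨m, hm, rfl⟩ z
    refine ⟨m, hm, Subtype.ext (Subtype.ext ?_)⟩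
    show (m : G) = ((z : P) : G) * m * ((z : P) : G)⁻¹
    rw [S.central m m.2 _ (z : P).2, mul_inv_cancel_right]⟩
  letI instA : CommGroup (Z ⧸ D) :=
    { (inferInstance : Group (Z ⧸ D)) with
      mul_comm := fun a b => by
        induction a using QuotientGroup.induction_on with | _ a =>
        induction b using QuotientGroup.induction_on with | _ b =>
        rw [← QuotientGroup.mk_mul, ← QuotientGroup.mk_mul, QuotientGroup.eq]
        refine ⟨⟨⁅(((b⁻¹ : Z) : P) : G), (((a⁻¹ : Z) : P) : G)⁆, S.comm_mem (b⁻¹ : Z).1.2 (a⁻¹ : Z).1.2⟩,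
          (b⁻¹ : Z).2 (a⁻¹ : Z), ?_⟩
        refine Subtype.ext (Subtype.ext ?_)
        show ⁅(((b⁻¹ : Z) : P) : G), (((a⁻¹ : Z) : P) : G)⁆ = _
        push_cast
        rw [commutatorElement_def]
        group }
  set jA : M →* Z ⧸ D := (QuotientGroup.mk' D).comp j with hjA
  have hker : jA.rangeRestrict.ker ≤ f.ker := by
    intro m hm
    rw [MonoidHom.ker_rangeRestrict, MonoidHom.mem_ker] at hm
    obtain ⟨m', hm', e⟩ := (QuotientGroup.eq_one_iff (j m)).mp hm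
    rwa [← hjinj e]
  set f' : jA.range →* ℂˣ :=
    jA.rangeRestrict.liftOfSurjective jA.rangeRestrict_surjective ⟨f, hker⟩ with hf'
  obtain ⟨ψA, hψA⟩ := MonoidHom.domRestrict_surjective (M := ℂ) jA.range f'
  have hψm : ∀ m : M, ψA (jA m) = f m := fun m => by
    have h1 := DFunLike.congr_fun hψA (jA.rangeRestrict m)
    rw [hf'] at h1
    exact h1.trans (MonoidHom.liftOfRightInverse_comp_apply _ _ _ ⟨f, hker⟩ m)
  -- every extension is fixed
  have hfix : ∀ μ : Z ⧸ D →* ℂˣ, (∀ m : M, μ (jA m) = f m) → ∀ (z : Z) (z' : Z),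
      ((z' : P) : G) = (k : G) * ((z : P) : G) * (k : G)⁻¹ → μ z' = μ z := by
    intro μ hμ z z' e
    haveI : Fintype Z := Fintype.ofFinite _
    set ψ : Cfsg.IrrCharacter Z := H38.RealOdd.linIrr (μ.comp (QuotientGroup.mk' D)) with hψ
    have hinv : ∀ y : P, H56.twist Z ψ.1 y = ψ.1 := fun y => funext fun w => by
      show (μ ((⟨y * w * y⁻¹, _⟩ : Z) : Z ⧸ D) : ℂ) = (μ (w : Z ⧸ D) : ℂ)
      set m : M := ⟨⁅(y : G), ((w : P) : G)⁆, S.comm_mem y.2 (w : P).2⟩ with hm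
      have hm1 : f m = 1 := by
        have h1 := (w : Z).2 y
        have h2 : m = (⟨⁅((w : P) : G), (y : G)⁆, S.comm_mem (w : P).2 y.2⟩ : M)⁻¹ :=
          Subtype.ext (by simp [hm, commutatorElement_inv])
        rw [h2, map_inv, h1, inv_one]
      rw [show (⟨y * w * y⁻¹, hZn.conj_mem w w.2 y⟩ : Z) = j m * w from Subtype.ext (Subtype.ext (by
        show (y : G) * ((w : P) : G) * (y : G)⁻¹ = ⁅(y : G), ((w : P) : G)⁆ * ((w : P) : G)
        rw [commutatorElement_def]; group)), QuotientGroup.mk_mul, map_mul]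
      rw [show μ ((j m : Z) : Z ⧸ D) = 1 from (hμ m).trans hm1, one_mul]
    obtain ⟨θ, hθ⟩ := H44.exists_irr_over Z ψ
    obtain ⟨n, hn, hres, -, h1⟩ := H56.restrict_eq_smul_of_invariant Z ψ.2 hinv θ.2 hθ
    have hψ1 : ψ.1 1 = 1 := H38.RealOdd.linFun_one _
    rw [hψ1, mul_one] at h1
    have hval : ∀ w : Z, θ.1 (w : P) = (n : ℂ) * (μ (w : Z ⧸ D) : ℂ) := fun w => congrFun hres w
    have hθM : ∀ m : M, θ.1 ⟨m, S.le m.2⟩ = θ.1 1 * f m := fun m => by
      rw [h1, ← hμ m]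
      exact hval (j m)
    have hk' := S.sylow_le_inertia hpq hap T hTn hf θ hθM ⟨k, hk, rfl⟩
    have h2 := congrFun (H44.mem_inertia P |>.mp hk') (z : P)
    have e' : (⟨(k : G) * ((z : P) : G) * (k : G)⁻¹, hPn.conj_mem _ (z : P).2 k⟩ : P) = (z' : P) :=
      Subtype.ext e.symm
    change θ.1 ⟨(k : G) * ((z : P) : G) * (k : G)⁻¹, _⟩ = θ.1 (z : P) at h2
    rw [e', hval, hval] at h2
    exact Units.ext (mul_left_cancel₀ (Nat.cast_ne_zero.mpr hn.ne') h2)
  -- the conjugate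
  have hxP : (k : G) * x * (k : G)⁻¹ ∈ P := hPn.conj_mem x hx k
  have hxZ : (⟨x, hx⟩ : P) ∈ Z := fun y => hrad y y.2
  have hx'Z : (⟨_, hxP⟩ : P) ∈ Z := by
    intro y
    have hy' : (k : G)⁻¹ * y * k ∈ P := by simpa using hPn.conj_mem _ y.2 (k : G)⁻¹
    have e : ⁅(k : G) * x * (k : G)⁻¹, (y : G)⁆ =
        ⁅x, (k : G)⁻¹ * y * k⁆ := by
      have h3 := hTc k hk _ (S.comm_mem hx hy')
      have h4 : (k : G) * ⁅x, (k : G)⁻¹ * y * k⁆ * (k : G)⁻¹ = ⁅x, (k : G)⁻¹ * y * k⁆ := by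
        rw [h3, mul_inv_cancel_right]
      rw [← h4]
      simp only [commutatorElement_def]
      group
    exact (congrArg f (Subtype.ext e)).trans (hrad _ hy')
  set z : Z := ⟨_, hxZ⟩ with hz
  set z' : Z := ⟨_, hx'Z⟩ with hz'
  have hmem : ((z⁻¹ * z' : Z) : Z ⧸ D) ∈ jA.range := by
    rw [← CommGroup.forall_monoidHom_apply_eq_one_iff (M := ℂ)]
    intro μ hμ
    have h1 := hfix ψA hψm z z' rfl
    have h2 := hfix (ψA * μ) (fun m => by
      rw [MonoidHom.mul_apply, hψm, hμ _ ⟨m, rfl⟩, mul_one]) z z' rfl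
    rw [MonoidHom.mul_apply, MonoidHom.mul_apply, h1, mul_right_inj] at h2
    rw [QuotientGroup.mk_mul, QuotientGroup.mk_inv, map_mul, map_inv, h2, inv_mul_cancel]
  obtain ⟨m, hm⟩ := hmem
  obtain ⟨m', -, hm'⟩ := (QuotientGroup.eq.mp hm : (j m)⁻¹ * (z⁻¹ * z') ∈ D)
  have hzz : z⁻¹ * z' = j (m * m') := by rw [map_mul, hm', mul_inv_cancel_left]
  have hval : x⁻¹ * ((k : G) * x * (k : G)⁻¹) = ((m * m' : M) : G) :=
    congrArg (fun w : Z => ((w : P) : G)) hzz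
  set w : G := ((m * m' : M) : G) with hw
  have hwM : w ∈ M := (m * m' : M).2
  have e : x * k * x⁻¹ * (k : G)⁻¹ = w⁻¹ := by
    have h3 := S.central w hwM x hx
    have h4 : (k : G) * x * (k : G)⁻¹ = x * w := by rw [← hval, mul_inv_cancel_left]
    calc x * k * x⁻¹ * (k : G)⁻¹ = x * ((k : G) * x * (k : G)⁻¹)⁻¹ := by group
      _ = w⁻¹ := by
        rw [h4, h3]
        group
  have hc : Commute (k : G) w⁻¹ := hTc k hk _ (inv_mem hwM)
  have := eq_one_of_conj e hc (S.coprime_orderOf (S.le (inv_mem hwM)) T.isPGroup' ⟨k, hk, rfl⟩ hpq)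
  rw [this, mul_inv_eq_one, mul_inv_eq_iff_eq_mul] at e
  exact e.symm

end Setting

end Cfsg.Agent.H17.Palfy
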