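import Cfsg.Agent.H17.Palfy.Lifting

/-!
# Passing to a faithful action
-/

set_option autoImplicit false
set_option linter.all false

namespace Cfsg.Agent.H17.Palfy

variable {K X : Type*} [Group K] [Finite K] [CommGroup X] [Finite X] (φ : K →* MulAut X)

/-- The stabilisers of the non-identity points have index prime to `q` and a normal abelian
Sylow `q`-subgroup. -/
def StabGood (q : ℕ) : Prop :=
  ∀ v : X, v ≠ 1 → ¬ q ∣ (stabOf φ v).index ∧ Good q ↥(stabOf φ v)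

/-- Each non-identity point is fixed by exactly one Sylow subgroup. -/
theorem StabGood.exists_sylow {q : ℕ} [Fact q.Prime] (h : StabGood φ q) {v : X} (hv : v ≠ 1) :
    ∃ Q : Sylow q K, (Q : Subgroup K) ≤ stabOf φ v ∧
      ∀ Q' : Sylow q K, (Q' : Subgroup K) ≤ stabOf φ v → Q' = Q := by
  obtain ⟨Q, hQ⟩ := H25.exists_sylow_le_of_not_dvd_index (stabOf φ v) (h v hv).1
  refine ⟨Q, hQ, fun Q' hQ' => ?_⟩
  obtain ⟨hn, -⟩ := (h v hv).2 (Q.subtype hQ)
  haveI := Sylow.unique_of_normal _ hn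
  exact Sylow.subtype_injective (Subsingleton.elim (Q'.subtype hQ') (Q.subtype hQ))

/-- The Sylow subgroups are abelian. -/
theorem StabGood.comm {q : ℕ} [Fact q.Prime] [Nontrivial X] (h : StabGood φ q) (Q : Sylow q K) :
    IsMulCommutative (Q : Subgroup K) := by
  obtain ⟨v, hv⟩ := exists_ne (1 : X)
  obtain ⟨Q₀, hQ₀, -⟩ := h.exists_sylow φ hv
  have hc : IsMulCommutative ((Q₀.subtype hQ₀ : Sylow q ↥(stabOf φ v)) : Subgroup ↥(stabOf φ v)) :=
    ((h v hv).2 _).2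
  obtain ⟨g, rfl⟩ := MulAction.exists_smul_eq K Q₀ Q
  refine ⟨⟨fun a b => Subtype.ext ?_⟩⟩
  obtain ⟨x, hx, ex⟩ := (show (a : K) ∈ (Q₀ : Subgroup K).map (MulAut.conj g).toMonoidHom from a.2)
  obtain ⟨y, hy, ey⟩ := (show (b : K) ∈ (Q₀ : Subgroup K).map (MulAut.conj g).toMonoidHom from b.2)
  have hxy : x * y = y * x := by
    have := hc.is_comm.comm ⟨⟨x, hQ₀ hx⟩, hx⟩ ⟨⟨y, hQ₀ hy⟩, hy⟩
    exact congrArg Subtype.val (congrArg Subtype.val this)
  rw [Subgroup.coe_mul, Subgroup.coe_mul, ← ex, ← ey, ← map_mul, ← map_mul, hxy]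

/-- A Sylow subgroup of order prime to the image lies in the kernel. -/
theorem sylow_le_ker {q : ℕ} [Fact q.Prime] (h : ¬ q ∣ Nat.card φ.range) (Q : Sylow q K) :
    (Q : Subgroup K) ≤ φ.ker :=
  sylow_le_of_normal φ.ker (by rwa [Subgroup.index_ker]) Q

/-- A Sylow subgroup inside the kernel is normal and abelian. -/
theorem StabGood.good_of_le_ker {q : ℕ} [Fact q.Prime] [Nontrivial X] (h : StabGood φ q)
    (Q : Sylow q K) (hQ : (Q : Subgroup K) ≤ φ.ker) : Good q K := by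
  obtain ⟨v, hv⟩ := exists_ne (1 : X)
  have hkv : φ.ker ≤ stabOf φ v := fun k hk => by
    rw [mem_stabOf, MonoidHom.mem_ker.mp hk, MulAut.one_apply]
  suffices hn : (Q : Subgroup K).Normal by
    intro P
    haveI := Sylow.unique_of_normal Q hn
    rw [Subsingleton.elim P Q]
    exact ⟨hn, h.comm φ Q⟩
  obtain ⟨hn, -⟩ := (h v hv).2 (Q.subtype (hQ.trans hkv))
  have hn' : (Q.subtype hQ : Subgroup φ.ker).Normal := by
    refine ⟨fun x hx g => ?_⟩
    exact hn.conj_mem ⟨x, hkv x.2⟩ hx ⟨g, hkv g.2⟩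
  haveI := Sylow.characteristic_of_normal _ hn'
  have e : ((Q.subtype hQ : Subgroup φ.ker).map φ.ker.subtype) = Q := by
    rw [Sylow.coe_subtype, Subgroup.subgroupOf_map_subtype, inf_eq_left.mpr hQ]
  rw [← e]
  exact ConjAct.normal_of_characteristic_of_normal

/-- The faithful action of the image is a local one. -/
theorem StabGood.loc {q : ℕ} [Fact q.Prime] [Nontrivial X] (h : StabGood φ q)
    (hd : q ∣ Nat.card φ.range) :
    Loc q φ.range X := by
  have hsur := φ.rangeRestrict_surjective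
  refine ⟨Fact.out, hd, fun Q => ?_, fun v hv => ?_⟩
  · obtain ⟨Q₀, rfl⟩ := Sylow.mapSurjective_surjective hsur q Q
    haveI := h.comm φ Q₀
    rw [Sylow.coe_mapSurjective]
    refine ⟨⟨fun a b => Subtype.ext ?_⟩⟩
    obtain ⟨x, hx, ex⟩ := a.2
    obtain ⟨y, hy, ey⟩ := b.2
    rw [Subgroup.coe_mul, Subgroup.coe_mul, ← ex, ← ey, ← map_mul, ← map_mul,
      setLike_mul_comm hx hy]
  · obtain ⟨Q₀, hQ₀, huniq⟩ := h.exists_sylow φ hv
    refine ⟨Q₀.mapSurjective hsur, ?_, fun Q' hQ' => ?_⟩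
    · rw [Sylow.coe_mapSurjective]
      rintro _ ⟨k, hk, rfl⟩
      exact mem_stabOf.mp (hQ₀ hk)
    · obtain ⟨Q₁, rfl⟩ := Sylow.mapSurjective_surjective hsur q Q'
      refine congrArg (Sylow.mapSurjective hsur) (huniq Q₁ fun k hk => mem_stabOf.mpr ?_)
      exact hQ' (by rw [Sylow.coe_mapSurjective]; exact ⟨k, hk, rfl⟩)

/-- The core theorem for an action by automorphisms. -/
theorem core_range [Group.IsSolvable K] [Nontrivial X] {q r : ℕ} [Fact q.Prime] [Fact r.Prime]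
    (hqr : q ≠ r) (hirr : ∀ U : Subgroup X, (∀ k, ∀ u ∈ U, φ k u ∈ U) → U = ⊥ ∨ U = ⊤)
    (hq : StabGood φ q) (hr : StabGood φ r) (hdq : q ∣ Nat.card φ.range)
    (hdr : r ∣ Nat.card φ.range) (hap : Apart q r K) : False := by
  haveI : FaithfulSMul φ.range X := ⟨fun h => Subtype.ext (MulEquiv.ext h)⟩
  haveI : Group.IsSolvable φ.range := Group.isSolvable_of_surjective φ.rangeRestrict_surjective
  refine core_false (H := φ.range) (V := X) hqr (fun U hU => hirr U fun k u hu =>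
    hU ⟨φ k, k, rfl⟩ u hu) (hq.loc φ hdq) (hr.loc φ hdr) fun χ h1 h2 => ?_
  let χ' : Cfsg.IrrCharacter K := ⟨fun k => χ.1 (φ.rangeRestrict k),
    H44.isIrrCharacter_comp_surjective _ φ.rangeRestrict_surjective χ.2⟩
  have e : Cfsg.charDegree (χ' : K → ℂ) = Cfsg.charDegree (χ : φ.range → ℂ) := by
    simp [Cfsg.charDegree, χ']
  exact hap χ' (e ▸ h1) (e ▸ h2)

end Cfsg.Agent.H17.Palfy
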